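import Cfsg.Agent.Lib.E6TwoFive.Tables
import Cfsg.Agent.Lib.ChevStructure.Poincare
import Cfsg.Agent.Lib.ChevFixed.Cell

/-!
The group of type E₆ over a field of characteristic two: signs disappear, the extended Weyl group
splits, and the words of the tables act as the permutations of the tables.
-/

set_option autoImplicit false
set_option maxRecDepth 100000
set_option linter.unusedSectionVars false

namespace Cfsg.Agent.Lib.E6TwoFive

open Cfsg.Lie Cfsg.Agent.Lib.ChevStructure
open scoped MatrixGroups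

universe w

/-- The indices of the fundamental roots. -/
abbrev I6 := Fin chevE6.rank

/-- The verified tables. -/
noncomputable abbrev C : Core chevE6 := LieTwisted.Twist.E6.C

theorem commOK : CommOK C := Cert.E6.core.commOK_mild mildE6

theorem wTab_spec : ∀ i : I6, ∀ r : Rt chevE6,
    chevE6.reflectRoot i.val r.val = (wTab.getD i.val []).getD r.val 0 := by decide +kernel

theorem pTab_spec : ∀ i : I6, chevE6.simple i.val = pTab.getD i.val 0 := by decide +kernel

theorem A_co : ∀ (j : I6) (r : Rt chevE6),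
    A chevE6 j r = ∑ m : I6, co chevE6 r m * (chevE6.cartan j.val (pTab.getD m.val 0)) := by decide +kernel

theorem w_val (i : I6) (r : Rt chevE6) : (C.w i r).val = (wTab.getD i.val []).getD r.val 0 := by
  rw [← wTab_spec, C.w_eq]

theorem p_val (i : I6) : (C.p i).val = pTab.getD i.val 0 := by rw [← pTab_spec, C.simple_eq]

/-- A list of numbers as a word. -/
def wd (L : List ℕ) : List I6 := toFinL chevE6.rank L

theorem pprod_val : ∀ (L : List I6) (r : Rt chevE6), (C.pprod L r).val = pf (L.map Fin.val) r.val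
  | [], r => rfl
  | i :: L, r => by
    rw [C.pprod_cons, Equiv.Perm.mul_apply, C.sref_apply, w_val, pprod_val L r]
    rfl

theorem pprod_wd_val {L : List ℕ} (h : ∀ i ∈ L, i < chevE6.rank) (r : Rt chevE6) :
    (C.pprod (wd L) r).val = pf L r.val := by
  rw [pprod_val, wd, toFinL_val h]

theorem pprod_wd_eq {L M : List ℕ} (hL : ∀ i ∈ L, i < chevE6.rank) (hM : ∀ i ∈ M, i < chevE6.rank)
    (h : ∀ r : Rt chevE6, pf L r.val = pf M r.val) : C.pprod (wd L) = C.pprod (wd M) :=
  Equiv.ext fun r => Fin.ext (by rw [pprod_wd_val hL, pprod_wd_val hM, h r])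

theorem pos_iff (r : Rt chevE6) : r ∈ C.Pos ↔ 36 ≤ r.val := by
  show 72 ≤ 2 * r.val ↔ _
  omega

theorem neg_iff (r : Rt chevE6) : r ∈ C.Neg ↔ r.val < 36 := by
  show 2 * r.val < 72 ↔ _
  omega

theorem rev_val (r : Rt chevE6) : r.rev.val = 71 - r.val := by
  rw [Fin.val_rev]
  show 72 - (r.val + 1) = _
  omega

/-! ### Characteristic two -/

section Two

variable {L : Type w} [Field L] [CharP L 2]

theorem neg_eq (x : L) : -x = x := CharTwo.neg_eq x

theorem sign_cast {e : ℤ} (h : e = 1 ∨ e = -1) : (e : L) = 1 := by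
  rcases h with rfl | rfl
  · exact Int.cast_one
  · rw [Int.cast_neg, Int.cast_one, neg_eq]

theorem P_X (i : I6) (r : Rt chevE6) (t : L) :
    C.P L i * C.X L r t * (C.P L i)⁻¹ = C.X L (C.w i r) t := by
  rw [C.P_X_conj, sign_cast (C.η_one i r), one_mul]

theorem wprod_X : ∀ (M : List I6) (r : Rt chevE6) (t : L),
    C.wprod L M * C.X L r t * (C.wprod L M)⁻¹ = C.X L (C.pprod M r) t
  | [], r, t => by simp [Core.wprod, Core.pprod]
  | i :: M, r, t => by
    have e : C.wprod L (i :: M) * C.X L r t * (C.wprod L (i :: M))⁻¹ =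
        C.P L i * (C.wprod L M * C.X L r t * (C.wprod L M)⁻¹) * (C.P L i)⁻¹ := by
      rw [C.wprod_cons]; group
    rw [e, wprod_X M r t, P_X, C.pprod_cons]
    rfl

theorem X_injective (r : Rt chevE6) {t u : L} (h : C.X L r t = C.X L r u) : t = u := by
  have : C.X L r (t - u) = 1 := by rw [sub_eq_add_neg, ← C.X_add, ← C.X_inv, h, mul_inv_cancel]
  exact sub_eq_zero.1 (C.X_eq_one this)

theorem HT_eq_one {c : I6 → Lˣ} (h : ∀ s, C.chA c s = 1) : C.HT L c = 1 := LieTwisted.Twist.E6.HT_one h

theorem HT_ext {c d : I6 → Lˣ} (h : ∀ s, C.chA c s = C.chA d s) : C.HT L c = C.HT L d :=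
  congrArg (Core.diag L) (funext h)

theorem chA_inj {c d : I6 → Lˣ} (h : C.HT L c = C.HT L d) (s : Rt chevE6) : C.chA c s = C.chA d s :=
  congrFun (C.diag_inj L h) s

/-- An element of the monomial group is determined by its action on the root elements. -/
theorem monomial_ext {n m : GL chevE6.Idx L} (hn : n ∈ chevE6.monomialSubgroup L)
    (hm : m ∈ chevE6.monomialSubgroup L)
    (h : ∀ r t, n * C.X L r t * n⁻¹ = m * C.X L r t * m⁻¹) : n = m := by
  have key : ∀ r t, (m⁻¹ * n) * C.X L r t * (m⁻¹ * n)⁻¹ = C.X L r t := fun r t => by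
    calc (m⁻¹ * n) * C.X L r t * (m⁻¹ * n)⁻¹ = m⁻¹ * (n * C.X L r t * n⁻¹) * m := by group
      _ = _ := by rw [h]; group
  have hd : m⁻¹ * n ∈ chevE6.diagonalSubgroup L :=
    C.mem_diagonal_of_acts_one (mul_mem (inv_mem hm) hn) fun r => ⟨1, fun t => by
      rw [key r t]; simp⟩
  obtain ⟨c, hc⟩ := C.mem_diagonal_iff.1 hd
  have h1 : C.HT L c = 1 := HT_eq_one fun s => Units.ext <| by
    have e := key s 1
    rw [hc, C.HT_X_conj] at e
    simpa using X_injective s e
  rw [h1, inv_mul_eq_one] at hc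
  exact hc.symm

theorem wprod_congr {M N : List I6} (h : C.pprod M = C.pprod N) : C.wprod L M = C.wprod L N :=
  monomial_ext (C.wprod_mem_monomial M) (C.wprod_mem_monomial N) fun r t => by
    rw [wprod_X, wprod_X, h]

theorem wprod_mul (M N : List I6) : C.wprod L M * C.wprod L N = C.wprod L (M ++ N) := (C.wprod_append L M N).symm

/-- The element nR of a fundamental root. -/
theorem nR_one (r : Rt chevE6) : C.nR L r 1 = C.X L r 1 * C.X L r.rev 1 * C.X L r 1 := by
  rw [Core.nR, inv_one, Units.val_one, neg_eq]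

/-- Conjugating a torus element. -/
theorem exists_wprod_HT (M : List I6) (c : I6 → Lˣ) :
    ∃ d, C.wprod L M * C.HT L c * (C.wprod L M)⁻¹ = C.HT L d ∧
      ∀ s, C.chA d (C.pprod M s) = C.chA c s := by
  obtain ⟨d, hd⟩ := C.wprod_HT L M c
  have e : C.wprod L M * C.HT L c * (C.wprod L M)⁻¹ = C.HT L d := by rw [hd, mul_inv_cancel_right]
  refine ⟨d, e, fun s => Units.ext ?_⟩
  have h1 : C.HT L d * C.X L (C.pprod M s) 1 * (C.HT L d)⁻¹ = C.X L (C.pprod M s) (C.chA c s : L) := by
    rw [← e]
    calc C.wprod L M * C.HT L c * (C.wprod L M)⁻¹ * C.X L (C.pprod M s) 1 *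
          (C.wprod L M * C.HT L c * (C.wprod L M)⁻¹)⁻¹
        = C.wprod L M * (C.HT L c * ((C.wprod L M)⁻¹ * C.X L (C.pprod M s) 1 * C.wprod L M) *
            (C.HT L c)⁻¹) * (C.wprod L M)⁻¹ := by group
      _ = _ := by
        rw [← wprod_X M s 1, show (C.wprod L M)⁻¹ * (C.wprod L M * C.X L s 1 * (C.wprod L M)⁻¹) *
          C.wprod L M = C.X L s 1 by group, C.HT_X_conj, mul_one, wprod_X]
  rw [C.HT_X_conj, mul_one] at h1
  exact X_injective _ h1

/-- The character of a torus element in terms of its values at the fundamental roots. -/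
theorem chA_expand (c : I6 → Lˣ) (s : Rt chevE6) :
    C.chA c s = ∏ m, C.chA c (C.p m) ^ co chevE6 s m := by
  have hp : ∀ (j m : I6), A chevE6 j (C.p m) = chevE6.cartan j.val (pTab.getD m.val 0) := fun j m => by
    rw [A, p_val]
  simp only [Core.chA, ← Finset.prod_zpow]
  rw [Finset.prod_comm]
  refine Finset.prod_congr rfl fun j _ => ?_
  rw [A_co, C.zpow_fsum]
  exact Finset.prod_congr rfl fun m _ => by rw [← zpow_mul, hp, mul_comm]

/-- Orthogonal roots give commuting root elements. -/
theorem commute_X {r s : Rt chevE6} (hrs : s ≠ r) (hne : s ≠ r.rev)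
    (h : chevE6.commTerms r.val s.val = []) (t u : L) : Commute (C.X L r t) (C.X L s u) := by
  have e := commOK.comm_X (R := L) r s hrs hne t u
  rw [h] at e
  show C.X L r t * C.X L s u = C.X L s u * C.X L r t
  simpa using e.symm

end Two

end Cfsg.Agent.Lib.E6TwoFive
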