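import Mathlib.Data.List.Basic

/-! Words for the isometries of the roots outside the Weyl group. -/

set_option autoImplicit false
set_option linter.style.longLine false

namespace Cfsg.Agent.Lib.E6TwoFive

/-- Images of the fundamental roots under the outer isometries, with words undoing them. -/
def extraTab : List (List ℕ × List ℕ) :=
  [
  ([56, 0, 13, 70, 30, 36], [2, 1, 3, 4, 5, 0, 2, 3, 4, 2, 3, 0, 2, 1, 3, 1]),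
  ([56, 0, 14, 69, 33, 36], [2, 1, 3, 4, 5, 0, 2, 3, 4, 0, 2, 3, 0, 2, 1]),
  ([56, 1, 10, 71, 22, 36], [2, 1, 3, 4, 5, 0, 2, 3, 4, 2, 3, 0, 2, 1, 3]),
  ([56, 1, 14, 69, 33, 36], [2, 1, 3, 4, 5, 0, 2, 3, 4, 0, 2, 3, 0, 2]),
  ([56, 2, 10, 71, 22, 36], [2, 1, 3, 4, 5, 0, 2, 3, 4, 2, 3, 0, 2, 1]),
  ([56, 2, 13, 70, 30, 36], [2, 1, 3, 4, 5, 0, 2, 3, 4, 2, 3, 0, 2]),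
  ([56, 24, 13, 39, 30, 36], [2, 3, 4, 5, 1, 3, 4, 2, 3, 0, 2, 1, 3, 4, 5, 1, 3, 4, 2, 3, 0, 2, 1, 3, 4, 3, 0, 2, 1, 3, 0, 2, 1]),
  ([56, 24, 55, 2, 67, 36], [3, 2, 1, 3, 4, 5, 0, 2, 3, 4, 0, 2, 3, 0, 2, 1]),
  ([56, 25, 14, 32, 33, 36], [2, 3, 4, 5, 1, 3, 4, 2, 3, 0, 2, 1, 3, 4, 5, 1, 3, 4, 2, 3, 0, 2, 1, 3, 4, 2, 3, 0, 2, 1, 3, 0, 2, 1]),
  ([56, 25, 55, 1, 67, 36], [3, 2, 1, 3, 4, 5, 0, 2, 3, 4, 2, 3, 0, 2, 1, 3, 1]),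
  ([56, 32, 10, 47, 22, 36], [2, 3, 4, 5, 1, 3, 4, 2, 3, 0, 2, 1, 3, 4, 5, 1, 3, 4, 2, 3, 0, 2, 1, 3, 4, 3, 0, 2, 1, 3, 0, 2]),
  ([56, 32, 55, 2, 67, 36], [3, 2, 1, 3, 4, 5, 0, 2, 3, 4, 0, 2, 3, 0, 2]),
  ([56, 39, 10, 46, 22, 36], [2, 3, 4, 5, 1, 3, 4, 2, 3, 0, 2, 1, 3, 4, 5, 1, 3, 4, 2, 3, 0, 2, 1, 3, 4, 3, 2, 1, 3, 0, 2]),
  ([56, 39, 55, 1, 67, 36], [3, 2, 1, 3, 4, 5, 0, 2, 3, 4, 2, 3, 0, 2]),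
  ([56, 46, 14, 24, 33, 36], [2, 3, 4, 5, 1, 3, 4, 2, 3, 0, 2, 1, 3, 4, 5, 1, 3, 4, 2, 3, 0, 2, 1, 3, 4, 2, 3, 0, 2, 1, 3, 0, 2]),
  ([56, 46, 55, 0, 67, 36], [3, 2, 1, 3, 4, 5, 0, 2, 3, 4, 2, 3, 0, 2, 1, 3]),
  ([56, 47, 13, 25, 30, 36], [2, 3, 4, 5, 1, 3, 4, 2, 3, 0, 2, 1, 3, 4, 5, 1, 3, 4, 2, 3, 0, 2, 1, 3, 4, 3, 2, 1, 3, 0, 2, 1]),
  ([56, 47, 55, 0, 67, 36], [3, 2, 1, 3, 4, 5, 0, 2, 3, 4, 2, 3, 0, 2, 1]),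
  ([56, 69, 10, 47, 22, 36], [2, 3, 4, 5, 0, 2, 3, 4, 2, 3, 0, 2, 1]),
  ([56, 69, 13, 39, 30, 36], [2, 3, 4, 5, 0, 2, 3, 4, 2, 3, 0, 2]),
  ([56, 70, 10, 46, 22, 36], [2, 3, 4, 5, 0, 2, 3, 4, 2, 3, 0, 2, 1, 3]),
  ([56, 70, 14, 32, 33, 36], [2, 3, 4, 5, 0, 2, 3, 4, 0, 2, 3, 0, 2]),
  ([56, 71, 13, 25, 30, 36], [2, 3, 4, 5, 0, 2, 3, 4, 2, 3, 0, 2, 1, 3, 1]),
  ([56, 71, 14, 24, 33, 36], [2, 3, 4, 5, 0, 2, 3, 4, 0, 2, 3, 0, 2, 1])]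

end Cfsg.Agent.Lib.E6TwoFive
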