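import Cfsg.Agent.Lib.E6TwoFive.Base
import Cfsg.Agent.Lib.E6TwoFive.Outer

/-!
The elements of the Weyl group which fix the element of order five are the twenty-four of the table.
-/

set_option autoImplicit false
set_option maxRecDepth 100000

namespace Cfsg.Agent.Lib.E6TwoFive

open Cfsg.Lie Cfsg.Agent.Lib.ChevStructure

/-- The pairing of two roots given by number. -/
def prN (r s : ℕ) : ℤ :=
  ((List.range 6).map fun j => (chevE6.coroot.getD r #[]).getD j 0 * chevE6.cartan j s).sum

/-- A possible image of the fundamental root `i`. -/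
def okN (l : List ℕ) (i x : ℕ) : Bool :=
  ((ev cv1 x - ev cv1 (pTab.getD i 0)) % 5 == 0) &&
    (List.range i).all fun j => prN (l.getD j 0) x == prN (pTab.getD j 0) (pTab.getD i 0)

/-- The possible images of the first fundamental roots. -/
def cands : ℕ → List (List ℕ)
  | 0 => [[]]
  | i + 1 => (cands i).flatMap fun l => ((List.range 72).filter (okN l i)).map fun x => l ++ [x]

theorem cands_cases : (cands 6).all
    (fun l => a3Img.contains l || (extraTab.map Prod.fst).contains l) = true := by decide +kernel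

theorem extra_spec : ∀ e ∈ extraTab, (∀ i ∈ e.2, i < chevE6.rank) ∧
    e.1.map (pf e.2) = pTab.map fun r => LieTwisted.GraphData.symE6.π r := by decide +kernel

theorem a3_spec : a3Img.length = 24 ∧ ∀ j : Fin 24, (∀ i ∈ a3Word j.val, i < chevE6.rank) ∧
    a3Img.getD j.val [] = pTab.map (pf (a3Word j.val)) := by decide +kernel

theorem prN_eq : ∀ r s : Rt chevE6, prN r.val s.val = pr chevE6 r s := by decide +kernel

theorem pTab_eq : pTab = (List.finRange chevE6.rank).map (fun i : I6 => pTab.getD i.val 0) := by decide +kernel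

theorem ne_pi : (pTab.map fun r => LieTwisted.GraphData.symE6.π r) ≠ pTab := by decide +kernel

theorem mem_cands {f : ℕ → ℕ} :
    ∀ {n : ℕ}, (∀ i < n, f i < 72 ∧ (5 : ℤ) ∣ ev cv1 (f i) - ev cv1 (pTab.getD i 0) ∧
        ∀ j < i, prN (f j) (f i) = prN (pTab.getD j 0) (pTab.getD i 0)) →
      (List.range n).map f ∈ cands n
  | 0, _ => by simp [cands]
  | n + 1, h => by
    rw [cands, List.mem_flatMap]
    refine ⟨_, mem_cands (n := n) fun i hi => h i (Nat.lt_succ_of_lt hi), ?_⟩
    rw [List.mem_map]
    refine ⟨f n, List.mem_filter.2 ⟨List.mem_range.2 (h n n.lt_succ_self).1, ?_⟩,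
      by rw [List.range_succ, List.map_append]; rfl⟩
    obtain ⟨-, h2, h3⟩ := h n n.lt_succ_self
    rw [okN, Bool.and_eq_true, beq_iff_eq, List.all_eq_true]
    refine ⟨Int.emod_eq_zero_of_dvd h2, fun j hj => ?_⟩
    rw [List.mem_range] at hj
    rw [beq_iff_eq, List.getD_eq_getElem _ _ (by simpa using hj)]
    simpa using h3 j hj

/-- A Weyl element is determined by the images of the fundamental roots. -/
theorem pprod_ext {M N : List I6} (h : ∀ i : I6, C.pprod M (C.p i) = C.pprod N (C.p i)) :
    C.pprod M = C.pprod N :=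
  Equiv.ext fun x => C.v_inj (funext fun m => by simp only [C.pprod_v _ x m, h])

/-- The Weyl elements fixing the element of order five. -/
theorem exists_a3 (M : List I6)
    (h : ∀ s, (5 : ℤ) ∣ ev cv1 (C.pprod M s).val - ev cv1 s.val) :
    ∃ j : Fin 24, C.pprod M = C.pprod (wd (a3Word j.val)) := by
  classical
  let f : ℕ → ℕ := fun i => if hi : i < chevE6.rank then (C.pprod M (C.p ⟨i, hi⟩)).val else 0
  have hf : ∀ i : I6, f i.val = (C.pprod M (C.p i)).val := fun i => dif_pos i.isLt
  have hl : (List.range 6).map f ∈ cands 6 := mem_cands fun i hi => by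
    have hi' : i < chevE6.rank := hi
    refine ⟨by rw [hf ⟨i, hi'⟩]; exact Fin.isLt _, ?_, fun j hj => ?_⟩
    · have := h (C.p ⟨i, hi'⟩)
      rwa [← hf ⟨i, hi'⟩, p_val] at this
    · have hj' : j < chevE6.rank := hj.trans hi'
      rw [hf ⟨i, hi'⟩, hf ⟨j, hj'⟩, prN_eq, C.pprod_pr, ← prN_eq, p_val, p_val]
  have hmap : (List.range 6).map f = (List.finRange chevE6.rank).map fun i : I6 => (C.pprod M (C.p i)).val := by
    rw [show (List.range 6) = (List.finRange chevE6.rank).map Fin.val from List.map_coe_finRange_eq_range.symm,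
      List.map_map]
    exact List.map_congr_left fun i _ => hf i
  have hc := List.all_eq_true.1 cands_cases _ hl
  simp only [Bool.or_eq_true, List.contains_iff_mem] at hc
  rcases hc with hc | hc
  · obtain ⟨j, hj, e⟩ := List.mem_iff_getElem.1 hc
    rw [a3_spec.1] at hj
    refine ⟨⟨j, hj⟩, pprod_ext fun i => Fin.ext ?_⟩
    obtain ⟨hlt, himg⟩ := a3_spec.2 ⟨j, hj⟩
    rw [List.getD_eq_getElem _ _ (by rw [a3_spec.1]; exact hj)] at himg
    rw [pprod_wd_val hlt, p_val]
    rw [himg, hmap, pTab_eq, List.map_map] at e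
    exact ((List.map_inj_left.1 e) i (List.mem_finRange i)).symm
  · obtain ⟨⟨l, N⟩, hN, e⟩ := List.mem_map.1 hc
    obtain ⟨hlt, himg⟩ := extra_spec _ hN
    exfalso
    have himg' : ∀ i : I6, (C.pprod (wd N ++ M) (C.p i)).val =
        LieTwisted.GraphData.symE6.π (pTab.getD i.val 0) := by
      intro i
      simp only at e
      rw [e, hmap, pTab_eq, List.map_map, List.map_map] at himg
      rw [C.pprod_append, Equiv.Perm.mul_apply, pprod_wd_val hlt]
      exact (List.map_inj_left.1 himg) i (List.mem_finRange i)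
    have h1 : C.pprod (wd N ++ M) = 1 := by
      by_contra hne
      obtain ⟨i, hi⟩ := C.exists_descent hne
      rw [neg_iff, himg' i] at hi
      revert hi
      revert i
      decide +kernel
    refine ne_pi ?_
    rw [pTab_eq, List.map_map]
    refine List.map_congr_left fun i _ => ?_
    have := himg' i
    rw [h1, Equiv.Perm.one_apply, p_val] at this
    exact this.symm

end Cfsg.Agent.Lib.E6TwoFive
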