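import Cfsg.Agent.Lib.E6TwoFive.Torus
import Cfsg.Agent.Lib.E6TwoFive.Stab

/-!
Normal forms in the centraliser of the element of order five inside the twisted group, and the bound on
its order.
-/

set_option autoImplicit false
set_option maxRecDepth 100000
set_option linter.unusedSectionVars false
set_option linter.style.haveILetI false

namespace Cfsg.Agent.Lib.E6TwoFive

open Cfsg.Lie Cfsg.Agent.Lib.ChevStructure Cfsg.Agent.Lib.LieTwisted.Twist
open Cfsg.Agent.Lib.ChevFixed.Basic (invSet exists_normalForm normalForm_unique)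
open scoped MatrixGroups

universe u w

/-- The roots orthogonal to the element. -/
def inS (r : Rt chevE6) : Bool := ev cv1 r.val % 5 == 0

theorem inS_iff (r : Rt chevE6) : inS r = true ↔ (5 : ℤ) ∣ ev cv1 r.val := by
  rw [inS, beq_iff_eq]
  omega

/-- The positive ones. -/
def Lv : List (Rt chevE6) := (List.finRange chevE6.nroots).filter fun r => decide (36 ≤ r.val) && inS r

/-- Those inverted by an element of the small Weyl group. -/
def Lu (j : Fin 24) : List (Rt chevE6) := Lv.filter fun r => decide (pf (a3Word j.val) r.val < 36)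

theorem Lv_fix : ∀ r ∈ Lv, pf [0] (piTab r.val) = r.val := by decide +kernel

theorem card_forms : Lv.length = 6 ∧ ∑ j : Fin 24, 2 ^ (Lu j).length = 315 := by decide +kernel

theorem a3_fix : ∀ j : Fin 24, ∀ r : Rt chevE6,
    pf ((wd [0] ++ (wd (a3Word j.val)).map ρ0).map Fin.val) r.val =
      pf ((wd (a3Word j.val) ++ wd [0]).map Fin.val) r.val := by decide +kernel

theorem co_facts :
    (pf [0] (piTab 56) = 36 ∧ pf [0] (piTab 42) = 37 ∧ pf [0] (piTab 37) = 57 ∧ pf [0] (piTab 36) = 15) ∧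
    (∀ m : I6, co chevE6 ⟨57, by decide⟩ m = if m.val = 0 ∨ m.val = 2 then 1 else 0) ∧
    (∀ m : I6, co chevE6 ⟨15, by decide⟩ m = if m.val = 0 then -1 else 0) ∧
    (∀ j : I6, (3 : ℤ) ∣ ∑ m : I6, chevE6.cartan j.val (pTab.getD m.val 0) * [1, 0, 2, 0, 1, 2].getD m.val 0) ∧
    (∀ m : I6, (5 : ℤ) ∣ ev cv1 (pTab.getD m.val 0) - [2, 0, 4, 0, 3, 4].getD m.val 0) := by decide +kernel

section Words

variable {L : Type w} [Field L]

/-- Dropping trivial coefficients from a word. -/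
theorem wordX_filter (p : Rt chevE6 → Bool) (a : Rt chevE6 → L) :
    ∀ (M : List (Rt chevE6)), (∀ r ∈ M, p r = false → a r = 0) → C.wordX L M a = C.wordX L (M.filter p) a
  | [], _ => rfl
  | r :: M, h => by
    have ih := wordX_filter p a M fun s hs => h s (List.mem_cons_of_mem _ hs)
    simp only [Core.wordX] at ih ⊢
    cases hp : p r with
    | true => simp [hp, ih]
    | false => simp [hp, ih, h r (List.mem_cons_self ..) hp, C.X_zero]

/-- A word with coefficients zero and one. -/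
noncomputable def bword (M : List (Rt chevE6)) (b : Fin M.length → Bool) : GL chevE6.Idx L :=
  (List.ofFn fun i => C.X L M[i.val] (if b i then 1 else 0)).prod

theorem exists_bword {M : List (Rt chevE6)} {a : Rt chevE6 → L} (h : ∀ r ∈ M, a r = 0 ∨ a r = 1) :
    ∃ b, C.wordX L M a = bword M b := by
  classical
  refine ⟨fun i => decide (a M[i.val] = 1), ?_⟩
  rw [bword, Core.wordX]
  refine congrArg List.prod (List.ext_getElem (by simp) fun n h1 h2 => ?_)
  simp only [List.getElem_ofFn, List.getElem_map]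
  rcases h (M[n]'(by simpa using h1)) (List.getElem_mem _) with e | e <;> simp [e]

theorem prod_six {G : Type w} [CommMonoid G] (f : I6 → G) : ∏ m, f m = f ⟨0, by decide⟩ * f ⟨1, by decide⟩ *
    f ⟨2, by decide⟩ * f ⟨3, by decide⟩ * f ⟨4, by decide⟩ * f ⟨5, by decide⟩ :=
  Fin.prod_univ_six f

end Words

theorem chA_mul {L : Type w} [Field L] (c d : I6 → Lˣ) (s : Rt chevE6) :
    C.chA (c * d) s = C.chA c s * C.chA d s := by
  simp [Core.chA, mul_zpow, Finset.prod_mul_distrib]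

theorem split_unique {L : Type w} [Field L] {v v' : GL chevE6.Idx L} (hv : v ∈ C.US L C.Pos)
    (hv' : v' ∈ C.US L C.Pos) {c c' : I6 → Lˣ} (e : v * C.HT L c = v' * C.HT L c') :
    v = v' ∧ C.HT L c = C.HT L c' := by
  have h1 : v'⁻¹ * v = C.HT L c' * (C.HT L c)⁻¹ := by
    rw [eq_mul_inv_iff_mul_eq, mul_assoc, e, inv_mul_cancel_left]
  have h2 : v'⁻¹ * v = 1 := by
    rw [← Subgroup.mem_bot, ← C.US_inf_diagonal]
    refine Subgroup.mem_inf.2 ⟨mul_mem (inv_mem hv') hv, ?_⟩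
    rw [h1]
    exact mul_mem (C.HT_mem_diagonal c') (inv_mem (C.HT_mem_diagonal c))
  have hvv : v' = v := inv_mul_eq_one.1 h2
  subst hvv
  exact ⟨rfl, mul_left_cancel e⟩

namespace Dat

variable {K : Type u} [Field K] {L : Type w} [Field L] (E : Dat K L)
include E

/-- The centraliser of `t` in the group fixed by the twisted Frobenius map. -/
noncomputable def cen : Subgroup (GL chevE6.Idx L) :=
  chevE6.group L ⊓ ((E.Fw [0]).toMonoidHom.eqLocus (MonoidHom.id _) ⊓ Subgroup.centralizer {E.t})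

theorem mem_cen {y : GL chevE6.Idx L} :
    y ∈ E.cen ↔ y ∈ chevE6.group L ∧ E.Fw [0] y = y ∧ E.t * y = y * E.t := by
  simp only [cen, Subgroup.mem_inf, Subgroup.mem_centralizer_singleton_iff]
  exact and_congr_right fun _ => and_congr Iff.rfl eq_comm

/-- Words fixed by `t` involve only orthogonal roots. -/
theorem word_comm {T : Set (Rt chevE6)} {M : List (Rt chevE6)} (hM : M.Pairwise (· < ·))
    (hMT : ∀ r, r ∈ M ↔ r ∈ T) (hT : T ⊆ C.Pos)
    (hcl : ∀ r ∈ T, ∀ s ∈ T, ∀ (q : Rt chevE6) (i j : ℕ), 1 ≤ i → 1 ≤ j →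
      C.v q = (i : ℤ) • C.v r + (j : ℤ) • C.v s → q ∈ T)
    {v : GL chevE6.Idx L} (hv : v ∈ C.US L T) (h : E.t * v * E.t⁻¹ = v) :
    ∃ a, v = C.wordX L (M.filter inS) a := by
  haveI := E.char
  obtain ⟨a, rfl⟩ := commOK.exists_word (R := L) hM (fun r hr => hT ((hMT r).1 hr))
    (fun r hr s hs q i j hi hj e => (hMT q).2 (hcl r ((hMT r).1 hr) s ((hMT s).1 hs) q i j hi hj e))
    (g := v) (by rwa [show {r | r ∈ M} = T from Set.ext hMT])
  refine ⟨a, wordX_filter inS a M fun r hr hp => ?_⟩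
  have e : C.wordX L M (fun r => (C.chA (E.τ 1 0) r : L) * a r) = C.wordX L M a := by
    refine Eq.trans ?_ h
    rw [← MulAut.conj_apply, ← MulEquiv.coe_toMonoidHom]
    simp only [Core.wordX, map_list_prod, List.map_map]
    refine congrArg List.prod (List.map_congr_left fun r _ => ?_)
    simp only [Function.comp_apply, MulEquiv.coe_toMonoidHom, MulAut.conj_apply]
    exact (C.HT_X_conj L (E.τ 1 0) r (a r)).symm
  have h1 := C.wordX_unique L hM (fun r hr => hT ((hMT r).1 hr)) e r hr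
  by_contra ha
  have h2 : C.chA (E.τ 1 0) r = 1 := Units.ext ((mul_eq_right₀ ha).1 h1)
  rw [E.chA_τ, ← zpow_zero E.ζ, E.ζ_zpow] at h2
  have : inS r = true := (inS_iff r).2 (by simpa using h2)
  rw [hp] at this
  exact Bool.noConfusion this

/-- The twisted Frobenius map on words in orthogonal roots. -/
theorem Fw0_word {M : List (Rt chevE6)} (hM : ∀ r ∈ M, r ∈ Lv) (a : Rt chevE6 → L) :
    E.Fw [0] (C.wordX L M a) = C.wordX L M (fun r => a r ^ 2) := by
  rw [← MulEquiv.coe_toMonoidHom]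
  simp only [Core.wordX, map_list_prod, List.map_map]
  refine congrArg List.prod (List.map_congr_left fun r hr => ?_)
  exact E.Fw_X (M := [0]) (by decide) (Lv_fix r (hM r hr)) (a r)

theorem Fw0_a3 (j : Fin 24) : E.Fw [0] (C.wprod L (wd (a3Word j.val))) = C.wprod L (wd (a3Word j.val)) := by
  haveI := E.char
  set M := wd (a3Word j.val) with hM
  have e : C.pprod (wd [0] ++ M.map ρ0) = C.pprod (M ++ wd [0]) := Equiv.ext fun r => Fin.ext (by
    rw [pprod_val, pprod_val, hM]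
    exact a3_fix j r)
  rw [E.Fw_apply, E.F0_wprod, wprod_mul, wprod_congr e, ← wprod_mul, mul_inv_cancel_right]

theorem t_HT (c : I6 → Lˣ) : E.t * C.HT L c * E.t⁻¹ = C.HT L c := by
  show C.HT L (E.τ 1 0) * C.HT L c * (C.HT L (E.τ 1 0))⁻¹ = _
  rw [C.HT_mul, mul_comm, ← C.HT_mul, mul_inv_cancel_right]

/-- The torus part of an element of the centraliser is a power of `t`. -/
theorem torus_eq {c : I6 → Lˣ} (hS : ∀ s : Rt chevE6, ∀ s' : Rt chevE6,
    s'.val = pf [0] (piTab s.val) → C.chA c s' = C.chA c s ^ 2) : ∃ k : Fin 5, C.HT L c = E.t ^ k.val := by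
  haveI := E.char
  obtain ⟨⟨f56, f42, f37, f36⟩, h57, h15, h3, h5⟩ := co_facts
  have hf : pf [0] (piTab 46) = 46 ∧ pf [0] (piTab 39) = 39 :=
    ⟨Lv_fix (rt 46) (by decide +kernel), Lv_fix (rt 39) (by decide +kernel)⟩
  set χ : I6 → Lˣ := fun m => C.chA c (C.p m) with hχ
  have hp : ∀ (n : ℕ) (hn : n < 72) (m : I6), pTab.getD m.val 0 = n → C.chA c (rt n hn) = χ m := fun n hn m e => by
    rw [hχ]; exact congrArg (C.chA c) (Fin.ext (by rw [p_val, e]; rfl))
  have step : ∀ (n n' : ℕ) (hn : n < 72) (hn' : n' < 72), pf [0] (piTab n) = n' →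
      C.chA c (rt n' hn') = C.chA c (rt n hn) ^ 2 := fun n n' hn hn' e => hS (rt n hn) (rt n' hn') e.symm
  have fixed : ∀ x : Lˣ, x = x ^ 2 → x = 1 := fun x hx => by
    rw [sq] at hx; exact mul_eq_left.1 hx.symm
  have e1 : χ ⟨1, by decide⟩ = 1 := fixed _ (by
    have := step 46 46 (by decide) (by decide) hf.1
    rwa [hp 46 _ ⟨1, by decide⟩ rfl] at this)
  have e3 : χ ⟨3, by decide⟩ = 1 := fixed _ (by
    have := step 39 39 (by decide) (by decide) hf.2
    rwa [hp 39 _ ⟨3, by decide⟩ rfl] at this)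
  have e5 : χ ⟨5, by decide⟩ = χ ⟨0, by decide⟩ ^ 2 := by
    have := step 56 36 (by decide) (by decide) f56
    rwa [hp 36 _ ⟨5, by decide⟩ rfl, hp 56 _ ⟨0, by decide⟩ rfl] at this
  have e4 : χ ⟨4, by decide⟩ = χ ⟨2, by decide⟩ ^ 2 := by
    have := step 42 37 (by decide) (by decide) f42
    rwa [hp 37 _ ⟨4, by decide⟩ rfl, hp 42 _ ⟨2, by decide⟩ rfl] at this
  have e57 : χ ⟨0, by decide⟩ * χ ⟨2, by decide⟩ = χ ⟨4, by decide⟩ ^ 2 := by
    have := step 37 57 (by decide) (by decide) f37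
    rw [hp 37 _ ⟨4, by decide⟩ rfl, chA_expand] at this
    rw [← this]
    simp only [show ∀ m : I6, co chevE6 (rt 57) m = _ from h57]
    rw [prod_six]
    simp [hχ]
  have e15 : (χ ⟨0, by decide⟩)⁻¹ = χ ⟨5, by decide⟩ ^ 2 := by
    have := step 36 15 (by decide) (by decide) f36
    rw [hp 36 _ ⟨5, by decide⟩ rfl, chA_expand] at this
    rw [← this]
    simp only [show ∀ m : I6, co chevE6 (rt 15) m = _ from h15]
    rw [prod_six]
    simp [hχ]
  set a := χ ⟨0, by decide⟩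
  set b := χ ⟨2, by decide⟩
  have ha5 : a ^ 5 = 1 := by
    rw [e5, ← pow_mul, inv_eq_iff_mul_eq_one, ← pow_succ'] at e15
    exact e15
  have hab : a = b ^ 3 := by
    rw [e4, ← pow_mul] at e57
    exact mul_right_cancel (b := b) (by rw [e57, ← pow_succ])
  have hcube : (∏ m : I6, χ m ^ [(1 : ℤ), 0, 2, 0, 1, 2].getD m.val 0) ^ (5 : ℕ) = 1 := by
    have e : ∀ m : I6, χ m = ∏ j, c j ^ chevE6.cartan j.val (pTab.getD m.val 0) := fun m => by
      simp only [hχ, Core.chA, A, p_val]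
    simp only [e, ← Finset.prod_zpow, ← zpow_mul]
    rw [Finset.prod_comm, ← Finset.prod_pow]
    refine Finset.prod_eq_one fun j _ => ?_
    rw [← C.zpow_fsum]
    obtain ⟨z, hz⟩ := h3 j
    rw [hz, ← zpow_natCast, ← zpow_mul, show (3 : ℤ) * z * ((5 : ℕ) : ℤ) = ((15 : ℕ) : ℤ) * z by push_cast; ring,
      zpow_mul, zpow_natCast, E.units_pow, one_zpow]
  have hb5 : b ^ 5 = 1 := by
    rw [prod_six] at hcube
    rw [e1, e3, e4, e5] at hcube
    simp only [List.getD_cons_zero, List.getD_cons_succ, one_zpow, mul_one, zpow_one] at hcube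
    rw [show (2 : ℤ) = ((2 : ℕ) : ℤ) from rfl, zpow_natCast, zpow_natCast] at hcube
    change (a * b ^ 2 * b ^ 2 * (a ^ 2) ^ 2) ^ 5 = 1 at hcube
    rw [hab, ← pow_mul, ← pow_mul, ← pow_add, ← pow_add, ← pow_add, ← pow_mul,
      pow_eq_pow_mod _ (E.units_pow b)] at hcube
    exact hcube
  obtain ⟨i, -, hi⟩ : ∃ i < 5, E.ζ ^ i = b := by
    have h : IsPrimitiveRoot (E.ζ : L) 5 := IsPrimitiveRoot.coe_units_iff.2 (E.hζ ▸ IsPrimitiveRoot.orderOf E.ζ)
    obtain ⟨i, h1, h2⟩ := h.eq_pow_of_pow_eq_one (ξ := (b : L))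
      (by rw [← Units.val_pow_eq_pow_val, hb5, Units.val_one])
    exact ⟨i, h1, Units.ext (by rw [Units.val_pow_eq_pow_val]; exact h2)⟩
  refine ⟨⟨4 * i % 5, Nat.mod_lt _ (by norm_num)⟩, ?_⟩
  rw [E.t_pow, q]
  have hm : ∀ m : I6, χ m = E.ζ ^ ((((4 * i % 5 : ℕ) : ℤ)) * [(2 : ℤ), 0, 4, 0, 3, 4].getD m.val 0) := by
    have hz : ∀ (n : ℕ) (z : ℤ), (5 : ℤ) ∣ (n : ℤ) - z → E.ζ ^ n = E.ζ ^ z := fun n z h => by
      rw [← zpow_natCast]; exact E.ζ_zpow.2 h
    intro m
    fin_cases m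
    · show a = _
      rw [hab, ← hi, ← pow_mul]; refine hz _ _ ?_; simp; omega
    · show χ ⟨1, _⟩ = _
      rw [e1]; simp
    · show b = _
      rw [← hi]; refine hz _ _ ?_; simp; omega
    · show χ ⟨3, _⟩ = _
      rw [e3]; simp
    · show χ ⟨4, _⟩ = _
      rw [e4, ← hi, ← pow_mul]; refine hz _ _ ?_; simp; omega
    · show χ ⟨5, _⟩ = _
      rw [e5, hab, ← hi, ← pow_mul, ← pow_mul]; refine hz _ _ ?_; simp; omega
  refine HT_ext fun s => ?_
  rw [chA_expand c, chA_expand (E.τ _ _)]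
  refine Finset.prod_congr rfl fun m _ => ?_
  congr 1
  rw [show C.chA c (C.p m) = χ m from rfl, hm, E.chA_τ, p_val, E.ζ_zpow, zero_mul, add_zero, ← mul_sub]
  exact ((dvd_sub_comm).1 (h5 m)).mul_left _

/-- The data of a normal form. -/
abbrev Param : Type := Σ j : Fin 24, (Fin Lv.length → Bool) × Fin 5 × (Fin (Lu j).length → Bool)

theorem pos_sorted (p : Rt chevE6 → Bool) : ((List.finRange chevE6.nroots).filter p).Pairwise (· < ·) :=
  (List.pairwise_lt_finRange _).filter _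

/-- The normal form in the centraliser. -/
theorem exists_form {y : GL chevE6.Idx L} (hy : y ∈ E.cen) :
    ∃ x : Param, y = bword Lv x.2.1 * E.t ^ x.2.2.1.val * C.wprod L (wd (a3Word x.1.val)) *
      bword (Lu x.1) x.2.2.2 := by
  haveI := E.char
  obtain ⟨hG, hF, ht⟩ := E.mem_cen.1 hy
  obtain ⟨v, c, M, u, hv, hu, rfl⟩ := exists_normalForm commOK hG
  have ht' : E.t * (v * C.HT L c * C.wprod L M * u) * E.t⁻¹ = v * C.HT L c * C.wprod L M * u :=
    mul_inv_eq_iff_eq_mul.2 ht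
  -- conjugation by `t`
  obtain ⟨d, hd, hd'⟩ := exists_wprod_HT M (E.τ (-1) 0)
  have hinv : E.t⁻¹ = C.HT L (E.τ (-1) 0) := inv_eq_of_mul_eq_one_right (by
    show E.q 1 0 * E.q (-1) 0 = 1
    rw [E.q_mul]; exact E.q_zero)
  have hn : E.t * C.wprod L M * E.t⁻¹ = C.HT L (E.τ 1 0 * d) * C.wprod L M := by
    rw [hinv, ← C.HT_mul, ← hd]
    show C.HT L (E.τ 1 0) * C.wprod L M * C.HT L (E.τ (-1) 0) = _
    group
  have tconj : ∀ {T : Set (Rt chevE6)} {g : GL chevE6.Idx L}, g ∈ C.US L T → E.t * g * E.t⁻¹ ∈ C.US L T :=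
    fun {T} {g} hg => (Subgroup.mem_normalizer_iff.1 (C.diag_le_normalizer T (C.HT_mem_diagonal (E.τ 1 0))) g).1 hg
  have e1 : (E.t * v * E.t⁻¹) * C.HT L (c * (E.τ 1 0 * d)) * C.wprod L M * (E.t * u * E.t⁻¹) =
      v * C.HT L c * C.wprod L M * u := by
    refine Eq.trans ?_ ht'
    rw [← C.HT_mul]
    calc E.t * v * E.t⁻¹ * (C.HT L c * C.HT L (E.τ 1 0 * d)) * C.wprod L M * (E.t * u * E.t⁻¹)
        = (E.t * v * E.t⁻¹) * C.HT L c * (C.HT L (E.τ 1 0 * d) * C.wprod L M) * (E.t * u * E.t⁻¹) := by group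
      _ = (E.t * v * E.t⁻¹) * (E.t * C.HT L c * E.t⁻¹) * (E.t * C.wprod L M * E.t⁻¹) * (E.t * u * E.t⁻¹) := by
          rw [E.t_HT, hn]
      _ = _ := by group
  have hB : ∀ {v : GL chevE6.Idx L} (c : I6 → Lˣ), v ∈ C.US L C.Pos → v * C.HT L c ∈ chevE6.borelSubgroup L :=
    fun c hv => mul_mem (C.posUS_le_borel hv) (C.diagonal_le_borel (C.HT_mem_diagonal c))
  obtain ⟨hu_t, hb⟩ := normalForm_unique (C.acts_wprod L M) (hB _ (tconj hv)) (hB c hv) (tconj hu) hu e1
  obtain ⟨hv_t, hc⟩ := split_unique (tconj hv) hv hb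
  have hσ : ∀ s, (5 : ℤ) ∣ ev cv1 (C.pprod M s).val - ev cv1 s.val := by
    intro s
    have h := chA_inj hc (C.pprod M s)
    rw [chA_mul, chA_mul, hd', mul_eq_left, E.chA_τ, E.chA_τ, ← zpow_add, ← zpow_zero E.ζ, E.ζ_zpow] at h
    simpa [sub_eq_add_neg] using h
  obtain ⟨j, hj⟩ := exists_a3 M hσ
  rw [wprod_congr hj] at hF ⊢
  -- shape of the unipotent factors
  have hjlt : ∀ i ∈ a3Word j.val, i < chevE6.rank := (a3_spec.2 j).1
  obtain ⟨a, rfl⟩ := E.word_comm (T := C.Pos) (M := (List.finRange chevE6.nroots).filter fun r => decide (36 ≤ r.val))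
    (pos_sorted E _) (fun r => by simp [pos_iff]) subset_rfl
    (fun r hr s hs q i k _ hk e => commOK.pos_closed hr hs hk e) hv hv_t
  obtain ⟨a', rfl⟩ := E.word_comm (T := invSet C (C.pprod M))
    (M := (List.finRange chevE6.nroots).filter fun r =>
      decide (36 ≤ r.val) && decide (pf (a3Word j.val) r.val < 36))
    (pos_sorted E _) (fun r => by
      show _ ↔ r ∈ C.Pos ∧ C.pprod M r ∈ C.Neg
      simp [pos_iff, neg_iff, hj, pprod_wd_val hjlt]) (fun r hr => hr.1)
    (fun r hr s hs q i k _ hk e => C.inv'_closed ⟨C.pprod M, C.pprod_mem_WG M⟩ hr hs hk e) hu hu_t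
  have lv : ((List.finRange chevE6.nroots).filter fun r => decide (36 ≤ r.val)).filter inS = Lv := by
    rw [List.filter_filter, Lv]
    exact List.filter_congr fun r _ => Bool.and_comm _ _
  have lu : ((List.finRange chevE6.nroots).filter fun r =>
      decide (36 ≤ r.val) && decide (pf (a3Word j.val) r.val < 36)).filter inS = Lu j := by
    rw [List.filter_filter, Lu, Lv, List.filter_filter]
    exact List.filter_congr fun r _ => by cases inS r <;> simp [Bool.and_comm]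
  rw [lv, lu] at hF ⊢
  rw [lv] at hv
  rw [lu] at hu
  have hLu : ∀ r ∈ Lu j, r ∈ Lv := fun r hr => (List.mem_filter.1 hr).1
  have hLvP : ∀ r ∈ Lv, r ∈ C.Pos := fun r hr => by
    rw [pos_iff]
    have h := (List.mem_filter.1 hr).2
    simp only [Bool.and_eq_true, decide_eq_true_eq] at h
    exact h.1
  have hLuI : ∀ r ∈ Lu j, r ∈ invSet C (C.pprod (wd (a3Word j.val))) := fun r hr =>
    ⟨hLvP r (hLu r hr), by
      rw [neg_iff, pprod_wd_val hjlt]
      simpa using (List.mem_filter.1 hr).2⟩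
  -- the twisted Frobenius map
  obtain ⟨d', hd1, hd2⟩ := E.exists_Fw_HT (M := [0]) (by decide) c
  rw [map_mul, map_mul, map_mul, E.Fw0_word (fun r hr => hr), E.Fw0_word hLu, hd1, E.Fw0_a3] at hF
  obtain ⟨hu2, hb2⟩ := normalForm_unique (C.acts_wprod L _)
    (hB _ (C.wordX_mem L (fun r hr => hLvP r hr) _)) (hB c hv)
    (C.wordX_mem L hLuI _) (C.wordX_mem L hLuI _) hF
  obtain ⟨hv2, hc2⟩ := split_unique (C.wordX_mem L (fun r hr => hLvP r hr) _) hv hb2
  have bool : ∀ x : L, x ^ 2 = x → x = 0 ∨ x = 1 := fun x hx => by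
    rcases eq_or_ne x 0 with h | h
    · exact Or.inl h
    · exact Or.inr (mul_left_cancel₀ h (by rw [mul_one, ← sq, hx]))
  obtain ⟨β, hβ⟩ : ∃ β : Fin Lv.length → Bool, C.wordX L Lv a = bword Lv β := exists_bword fun r hr => bool _ (C.wordX_unique L (pos_sorted E _) hLvP hv2 r hr)
  obtain ⟨γ, hγ⟩ : ∃ γ : Fin (Lu j).length → Bool, C.wordX L (Lu j) a' = bword (Lu j) γ := exists_bword fun r hr => bool _
    (C.wordX_unique L ((pos_sorted E _).filter _) (fun r hr => hLvP r (hLu r hr)) hu2 r hr)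
  obtain ⟨k, hk⟩ := E.torus_eq (c := c) fun s s' hs => by
    rw [← hd2 s s' hs]; exact (chA_inj hc2 s').symm
  exact ⟨⟨j, β, k, γ⟩, by rw [hβ, hγ, hk]⟩

theorem card_cen_le : Nat.card E.cen ≤ 100800 := by
  haveI := E.finiteL
  choose f hf using fun y : E.cen => E.exists_form y.2
  refine (Nat.card_le_card_of_injective f fun a b h => Subtype.ext ?_).trans ?_
  · rw [hf a, hf b, h]
  · rw [Nat.card_eq_fintype_card, Fintype.card_sigma]
    simp only [Fintype.card_prod, Fintype.card_fun, Fintype.card_fin, Fintype.card_bool]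
    rw [← Finset.mul_sum, ← Finset.mul_sum, card_forms.1, card_forms.2]
    norm_num

end Dat

end Cfsg.Agent.Lib.E6TwoFive
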