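import Cfsg.Agent.Lib.E6TwoFive.Base
import Cfsg.Agent.Lib.LieTwisted.Twist.E6Thms
import Cfsg.Agent.Lib.ChevFixed.Basic
import Cfsg.Agent.Lib.ChevFixed.Field
import Mathlib.FieldTheory.Finite.Extension

/-!
The Frobenius map of ²E₆(2) on the group over the field of sixteen elements, and descent.
-/

set_option autoImplicit false
set_option maxRecDepth 100000
set_option linter.unusedSectionVars false
set_option linter.style.haveILetI false

namespace Cfsg.Agent.Lib.E6TwoFive

open Cfsg.Lie Cfsg.Agent.Lib.ChevStructure Cfsg.Agent.Lib.LieTwisted.Twist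
open scoped MatrixGroups

universe u w

/-- The diagram automorphism on root numbers. -/
def piTab (r : ℕ) : ℕ := LieTwisted.GraphData.symE6.π r

/-- The permutation of the roots. -/
def π0 : Equiv.Perm (Rt chevE6) := Frob.rootPerm E6.g

theorem π0_val (r : Rt chevE6) : (π0 r).val = piTab r.val := rfl

theorem π0_sq : ∀ r : Rt chevE6, π0 (π0 r) = r := by decide +kernel

theorem π0_rev (r : Rt chevE6) : π0 r.rev = (π0 r).rev := E6.root_rev r

theorem rho_lt : ∀ i : I6, rhoTab.getD i.val 0 < chevE6.rank := by decide +kernel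

/-- The diagram automorphism on nodes. -/
def ρ0 (i : I6) : I6 := ⟨rhoTab.getD i.val 0, rho_lt i⟩

theorem piTab_p : ∀ i : I6, piTab (pTab.getD i.val 0) = pTab.getD (ρ0 i).val 0 := by decide +kernel

theorem π0_p (i : I6) : π0 (C.p i) = C.p (ρ0 i) := Fin.ext (by rw [π0_val, p_val, piTab_p, p_val])

/-- The signs of the symmetry. -/
theorem eps_sign (r : Rt chevE6) :
    LieTwisted.GraphData.symE6.ε r.val = 1 ∨ LieTwisted.GraphData.symE6.ε r.val = -1 := by
  have := LieTwisted.GraphAut.eps_cast_mul_self ℚ E6.g r.isLt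
  rcases mul_self_eq_one_iff.1 this with h | h
  · exact Or.inl (by exact_mod_cast h)
  · exact Or.inr (by exact_mod_cast h)

/-- A field of four elements inside one of sixteen elements. -/
structure Ext (K : Type u) [Field K] (L : Type w) [Field L] where
  f : K →+* L
  φ : L ≃+* L
  φ_apply : ∀ x, φ x = x ^ 2
  char : CharP L 2
  cardK : Nat.card K = 4
  cardL : Nat.card L = 16

theorem exists_ext (K : Type u) [Field K] [Fintype K] (hK : Fintype.card K = 4) :
    ∃ (L : Type) (_ : Field L), Nonempty (Ext K L) := by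
  haveI : CharP K 2 := charP_of_card_eq_prime_pow (f := 2) (by rw [hK]; norm_num)
  haveI : CharP (FiniteField.Extension K 2 2) 2 :=
    charP_of_injective_algebraMap (algebraMap K (FiniteField.Extension K 2 2)).injective 2
  haveI : Finite (FiniteField.Extension K 2 2) := Module.finite_of_finite K
  haveI : ExpChar (FiniteField.Extension K 2 2) 2 := ExpChar.prime Nat.prime_two
  refine ⟨FiniteField.Extension K 2 2, inferInstance, ⟨{
    f := algebraMap K (FiniteField.Extension K 2 2)
    φ := frobeniusEquiv (FiniteField.Extension K 2 2) 2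
    φ_apply := fun x => frobeniusEquiv_def _ _ x
    char := inferInstance
    cardK := by rw [Nat.card_eq_fintype_card, hK]
    cardL := by rw [FiniteField.natCard_extension, Nat.card_eq_fintype_card, hK]; norm_num }⟩⟩

namespace Ext

variable {K : Type u} [Field K] {L : Type w} [Field L] (E : Ext K L)
include E

theorem finiteL : Finite L := Nat.finite_of_card_ne_zero (by rw [E.cardL]; norm_num)

theorem finiteK : Finite K := Nat.finite_of_card_ne_zero (by rw [E.cardK]; norm_num)

theorem charK : CharP K 2 := by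
  haveI := E.char
  exact (E.f.charP_iff_charP 2).2 inferInstance

theorem pow_K (x : K) : x ^ 4 = x := by
  haveI := E.finiteK
  letI := Fintype.ofFinite K
  have := FiniteField.pow_card x
  rwa [← Nat.card_eq_fintype_card, E.cardK] at this

theorem pow_L (x : L) : x ^ 16 = x := by
  haveI := E.finiteL
  letI := Fintype.ofFinite L
  have := FiniteField.pow_card x
  rwa [← Nat.card_eq_fintype_card, E.cardL] at this

/-- A fixed scalar comes from the small field. -/
theorem mem_of_pow_four {x : L} (hx : x ^ 4 = x) : ∃ y, E.f y = x := by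
  classical
  haveI := E.finiteK
  letI := Fintype.ofFinite K
  by_contra hne
  push Not at hne
  have hdeg : (Polynomial.X ^ 4 - Polynomial.X : Polynomial L).natDegree = 4 :=
    FiniteField.X_pow_card_sub_X_natDegree_eq L (by norm_num)
  have hP : (Polynomial.X ^ 4 - Polynomial.X : Polynomial L) ≠ 0 := fun h => by
    rw [h, Polynomial.natDegree_zero] at hdeg; omega
  have hsub : insert x (Finset.univ.image E.f) ⊆
      (Polynomial.X ^ 4 - Polynomial.X : Polynomial L).roots.toFinset := by
    intro y hy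
    have hy' : y ^ 4 = y := by
      rcases Finset.mem_insert.1 hy with rfl | hy
      · exact hx
      · obtain ⟨a, -, rfl⟩ := Finset.mem_image.1 hy
        rw [← map_pow, E.pow_K]
    rw [Multiset.mem_toFinset, Polynomial.mem_roots hP]
    simp [hy']
  have h1 := (Finset.card_le_card hsub).trans ((Multiset.toFinset_card_le _).trans (Polynomial.card_roots' _))
  rw [Finset.card_insert_of_notMem (by simpa using hne), Finset.card_image_of_injective _ E.f.injective,
    Finset.card_univ, ← Nat.card_eq_fintype_card, E.cardK, hdeg] at h1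
  omega

theorem units_pow (x : Lˣ) : x ^ 15 = 1 := by
  have h := E.pow_L (x : L)
  rw [show (16 : ℕ) = 15 + 1 from rfl, pow_succ] at h
  exact Units.ext (by rw [Units.val_pow_eq_pow_val, Units.val_one]; exact (mul_eq_right₀ x.ne_zero).1 h)

/-- The Frobenius map with the diagram automorphism. -/
noncomputable def F0 : GL chevE6.Idx L ≃* GL chevE6.Idx L := Frob.theta E6.g E.φ

theorem F0_X (r : Rt chevE6) (t : L) : E.F0 (C.X L r t) = C.X L (π0 r) (t ^ 2) := by
  haveI := E.char
  haveI := E.finiteL
  letI := Fintype.ofFinite L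
  rw [F0, Frob.theta_X C, E.φ_apply, sign_cast (eps_sign r), one_mul]
  rfl

theorem F0_P (i : I6) : E.F0 (C.P L i) = C.P L (ρ0 i) := by
  haveI := E.char
  rw [Core.P, Core.P, nR_one, nR_one, map_mul, map_mul, E.F0_X, E.F0_X, one_pow, π0_rev, π0_p]

theorem F0_wprod (M : List I6) : E.F0 (C.wprod L M) = C.wprod L (M.map ρ0) := by
  induction M with
  | nil => exact map_one _
  | cons i M ih => rw [List.map_cons, C.wprod_cons, C.wprod_cons, map_mul, E.F0_P, ih]

theorem F0_mem {y : GL chevE6.Idx L} (hy : y ∈ chevE6.group L) : E.F0 y ∈ chevE6.group L := by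
  have hle : chevE6.group L ≤ (chevE6.group L).comap E.F0.toMonoidHom := by
    refine (Subgroup.closure_le _).2 ?_
    rintro g ⟨r, t, hg⟩
    have e : g = C.X L r t := C.eq_X (by rw [hg, ChevalleyDatum.x, dif_pos r.isLt])
    rw [e]
    show E.F0 (C.X L r t) ∈ chevE6.group L
    rw [E.F0_X]
    exact C.X_mem_group _ _
  exact hle hy

/-- The Frobenius map on torus elements. -/
theorem exists_F0_HT (c : I6 → Lˣ) :
    ∃ d, E.F0 (C.HT L c) = C.HT L d ∧ ∀ s, C.chA d (π0 s) = C.chA c s ^ 2 := by
  haveI := E.char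
  haveI := E.finiteL
  letI := Fintype.ofFinite L
  obtain ⟨d, hd⟩ : ∃ d, E.F0 (C.HT L c) = C.HT L d :=
    ⟨_, Frob.theta_HT C E6.g E.φ E6.root_p E6.root_rev E6.sign_p c⟩
  refine ⟨d, hd, fun s => Units.ext ?_⟩
  have h1 := congrArg E.F0 (C.HT_X_conj L c s 1)
  rw [map_mul, map_mul, map_inv, hd, E.F0_X, E.F0_X, one_pow, C.HT_X_conj, mul_one, mul_one] at h1
  rw [Units.val_pow_eq_pow_val]
  exact X_injective _ h1

/-- The entrywise map. -/
noncomputable abbrev mp : GL chevE6.Idx K →* GL chevE6.Idx L := Matrix.GeneralLinearGroup.map E.f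

theorem mp_injective : Function.Injective E.mp := ChevFixed.map_injective E.f E.f.injective

theorem F0_mp (φK : K ≃+* K) (hφ : ∀ t, φK t = t ^ 2) {y : GL chevE6.Idx K} (hy : y ∈ chevE6.group K) :
    E.F0 (E.mp y) = E.mp (Frob.theta E6.g φK y) := by
  haveI := E.char
  haveI := E.finiteK
  letI := Fintype.ofFinite K
  refine Subgroup.closure_induction ?_ ?_ ?_ ?_ hy
  · rintro g ⟨r, t, hg⟩
    have e : g = C.X K r t := C.eq_X (by rw [hg, ChevalleyDatum.x, dif_pos r.isLt])
    rw [e, C.X_map, E.F0_X, Frob.theta_X C, C.X_map, map_mul, map_intCast, hφ, map_pow]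
    rw [sign_cast (eps_sign r), one_mul]
    rfl
  · simp
  · intro a b _ _ ha hb; simp only [map_mul, ha, hb]
  · intro a _ ha; simp only [map_inv, ha]

theorem F0_F0 {y : GL chevE6.Idx L} (hy : y ∈ chevE6.group L) :
    E.F0 (E.F0 y) = Matrix.GeneralLinearGroup.map (E.φ.trans E.φ : L →+* L) y := by
  haveI := E.char
  refine Subgroup.closure_induction ?_ ?_ ?_ ?_ hy
  · rintro g ⟨r, t, hg⟩
    have e : g = C.X L r t := C.eq_X (by rw [hg, ChevalleyDatum.x, dif_pos r.isLt])
    rw [e, E.F0_X, E.F0_X, π0_sq, C.X_map]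
    congr 1
    simp [E.φ_apply]
  · simp
  · intro a b _ _ ha hb; simp only [map_mul, ha, hb]
  · intro a _ ha; simp only [map_inv, ha]

/-- A fixed element of the big group comes from the small group. -/
theorem descent {y : GL chevE6.Idx L} (hy : y ∈ chevE6.group L) (hf : E.F0 y = y) :
    ∃ z ∈ chevE6.group K, E.mp z = y := by
  haveI := E.char
  set σ : L →+* L := (E.φ.trans E.φ : L →+* L) with hσ
  have hσa : ∀ x, σ x = x ^ 4 := fun x => by simp [hσ, E.φ_apply, ← pow_mul]
  have hm : Matrix.GeneralLinearGroup.map σ y = y := by rw [← E.F0_F0 hy, hf, hf]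
  obtain ⟨a, ha, b, hb, c, hc, rfl⟩ := ChevFixed.Basic.fixed_group (C := C) commOK σ hy hm
  set M := (chevE6.group K).map E.mp with hM
  have hX : Subgroup.closure {x | ∃ (r : Rt chevE6) (t : L), σ t = t ∧ x = C.X L r t} ≤ M := by
    refine (Subgroup.closure_le _).2 ?_
    rintro x ⟨r, t, ht, rfl⟩
    obtain ⟨s, rfl⟩ := E.mem_of_pow_four (by rw [← hσa]; exact ht)
    exact ⟨C.X K r s, C.X_mem_group r s, C.X_map K E.f r s⟩
  have hcM : C.HT L c ∈ M := by
    rw [ChevFixed.map_HT] at hc
    set z := (fun j => Units.map σ.toMonoidHom (c j)) / c with hz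
    have hz1 : C.HT L z = 1 := by
      show C.HThom L ((fun j => Units.map σ.toMonoidHom (c j)) / c) = 1
      rw [map_div, div_eq_one]
      exact hc
    have hfix : ∀ j, (c j : L) ^ 4 = c j := by
      intro j
      have h3 := E6.ker_pow3 hz1 j
      have e : Units.map σ.toMonoidHom (c j) = c j ^ 4 := Units.ext (by simp [hσa])
      have hzj : z j = c j ^ 3 := by
        rw [hz, Pi.div_apply, e, pow_succ, mul_div_cancel_right]
      rw [hzj, ← pow_mul] at h3
      have h15 := E.units_pow (c j)
      have h33 : c j ^ (3 * 3) = 1 := h3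
      have h : c j ^ Nat.gcd 9 15 = 1 := pow_gcd_eq_one.2 ⟨h33, h15⟩
      rw [← Units.val_pow_eq_pow_val, pow_succ, show c j ^ 3 = 1 from h, one_mul]
    choose d hd using fun j => E.mem_of_pow_four (hfix j)
    have hd0 : ∀ j, d j ≠ 0 := fun j h => (c j).ne_zero (by rw [← hd j, h, map_zero])
    refine ⟨C.HT K fun j => Units.mk0 (d j) (hd0 j), C.HT_mem_group _, ?_⟩
    rw [ChevFixed.map_HT]
    exact congrArg (C.HT L) (funext fun j => Units.ext (hd j))
  obtain ⟨z, hz, e⟩ := mul_mem (mul_mem (hX ha) hcM) (hX hb)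
  exact ⟨z, hz, e⟩

/-- The twisted group is the group of fixed points. -/
theorem twisted_iff {z : GL chevE6.Idx K} :
    z ∈ twistedE6 K 2 ↔ z ∈ chevE6.group K ∧ E.F0 (E.mp z) = E.mp z := by
  haveI := E.finiteK
  letI := Fintype.ofFinite K
  have hK : Fintype.card K = 2 ^ 2 := by rw [← Nat.card_eq_fintype_card, E.cardK]; norm_num
  obtain ⟨φ, hF⟩ := Frob.exists_frob (K := K) (n := 2) (Nat.Prime.isPrimePow Nat.prime_two) hK (by norm_num)
  rw [← E6.G1_eq hF Nat.one_lt_two hK, show (E6.orth hF Nat.one_lt_two hK).G1 =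
    (E6.orth hF Nat.one_lt_two hK).tw.W from rfl, Tw.mem_W_iff]
  refine and_congr_right fun hz => ?_
  rw [E.F0_mp φ hF.apply hz, E.mp_injective.eq_iff]
  rfl

/-- A fixed element comes from the twisted group. -/
theorem descent_twisted {y : GL chevE6.Idx L} (hy : y ∈ chevE6.group L) (hf : E.F0 y = y) :
    ∃ z ∈ twistedE6 K 2, E.mp z = y := by
  obtain ⟨z, hz, rfl⟩ := E.descent hy hf
  exact ⟨z, E.twisted_iff.2 ⟨hz, hf⟩, rfl⟩

end Ext

end Cfsg.Agent.Lib.E6TwoFive
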