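import Cfsg.Agent.Lib.E6TwoFive.Rep
import Mathlib.GroupTheory.Sylow

/-!
In ²E₆(2) the elements of order five form one class, with centraliser 5 × A₈.
-/

set_option autoImplicit false
set_option maxRecDepth 100000
set_option linter.unusedSectionVars false
set_option linter.style.haveILetI false

namespace Cfsg.Agent.Lib.E6TwoFive

open Cfsg.Lie Cfsg.Agent.Lib.ChevStructure Cfsg.Agent.Lib.LieTwisted.Twist
open scoped MatrixGroups Pointwise

universe u w

/-- Centralisers of conjugate elements are isomorphic. -/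
theorem centralizer_equiv {G : Type u} [Group G] {x y : G} (h : IsConj x y) :
    Nonempty (Subgroup.centralizer ({x} : Set G) ≃* Subgroup.centralizer ({y} : Set G)) := by
  obtain ⟨c, hc⟩ := isConj_iff.1 h
  have e : (Subgroup.centralizer ({x} : Set G)).map (MulAut.conj c).toMonoidHom =
      Subgroup.centralizer ({y} : Set G) := by
    ext z
    rw [Subgroup.mem_map_equiv, Subgroup.mem_centralizer_singleton_iff, Subgroup.mem_centralizer_singleton_iff,
      MulAut.conj_symm_apply, ← hc]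
    constructor <;> intro e
    · calc z * (c * x * c⁻¹) = c * (c⁻¹ * z * c * x) * c⁻¹ := by group
        _ = _ := by rw [e]; group
    · calc c⁻¹ * z * c * x = c⁻¹ * (z * (c * x * c⁻¹)) * c := by group
        _ = _ := by rw [e]; group
  exact ⟨((MulAut.conj c).subgroupMap _).trans (MulEquiv.subgroupCongr e)⟩

namespace Dat

variable {K : Type u} [Field K] {L : Type w} [Field L] (E : Dat K L)
include E

theorem conj_descent {g : GL chevE6.Idx L} {F : GL chevE6.Idx L ≃* GL chevE6.Idx L}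
    (hg : g ∈ chevE6.group L) (hF : ∀ y, E.F0 (g * y * g⁻¹) = g * F y * g⁻¹) {y : GL chevE6.Idx L}
    (hy : y ∈ chevE6.group L) (hy' : F y = y) : ∃ z : twistedE6 K 2, E.mp z.1 = g * y * g⁻¹ := by
  obtain ⟨z, hz, e⟩ := E.descent_twisted (mul_mem (mul_mem hg hy) (inv_mem hg)) (by rw [hF, hy'])
  exact ⟨⟨z, hz⟩, e⟩

theorem twisted_fixed (z : twistedE6 K 2) : E.mp z.1 ∈ chevE6.group L ∧ E.F0 (E.mp z.1) = E.mp z.1 := by
  obtain ⟨hz, hf⟩ := E.twisted_iff.1 z.2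
  exact ⟨ChevFixed.map_group_le C E.f ⟨_, hz, rfl⟩, hf⟩

theorem cent_equiv (x₀ : twistedE6 K 2) (hx₀ : E.mp x₀.1 = E.g1 * E.t * E.g1⁻¹) :
    Nonempty (Subgroup.centralizer ({x₀} : Set (twistedE6 K 2)) ≃* E.cen) := by
  have hmem : ∀ y : Subgroup.centralizer ({x₀} : Set (twistedE6 K 2)), E.g1⁻¹ * E.mp y.1.1 * E.g1 ∈ E.cen := by
    intro y
    obtain ⟨hG, hF⟩ := E.twisted_fixed y.1
    refine E.mem_cen.2 ⟨mul_mem (mul_mem (inv_mem E.g_mem.1) hG) E.g_mem.1, ?_, ?_⟩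
    · have h := E.g1_spec (E.g1⁻¹ * E.mp y.1.1 * E.g1)
      rw [show E.g1 * (E.g1⁻¹ * E.mp y.1.1 * E.g1) * E.g1⁻¹ = E.mp y.1.1 by group, hF] at h
      calc E.Fw [0] (E.g1⁻¹ * E.mp y.1.1 * E.g1)
          = E.g1⁻¹ * (E.g1 * E.Fw [0] (E.g1⁻¹ * E.mp y.1.1 * E.g1) * E.g1⁻¹) * E.g1 := by group
        _ = _ := by rw [← h]
    · have h : E.mp y.1.1 * E.mp x₀.1 = E.mp x₀.1 * E.mp y.1.1 := by
        rw [← map_mul, ← map_mul]
        exact congrArg (fun z : twistedE6 K 2 => E.mp z.1) (Subgroup.mem_centralizer_singleton_iff.1 y.2)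
      rw [hx₀] at h
      calc E.t * (E.g1⁻¹ * E.mp y.1.1 * E.g1)
          = E.g1⁻¹ * (E.g1 * E.t * E.g1⁻¹ * E.mp y.1.1) * E.g1 := by group
        _ = _ := by rw [← h]; group
  let ψ : Subgroup.centralizer ({x₀} : Set (twistedE6 K 2)) →* E.cen :=
    { toFun := fun y => ⟨_, hmem y⟩
      map_one' := Subtype.ext (by simp)
      map_mul' := fun a b => Subtype.ext (by
        show E.g1⁻¹ * E.mp (a.1.1 * b.1.1) * E.g1 = _ * _
        rw [map_mul]; group) }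
  refine ⟨MulEquiv.ofBijective ψ ⟨fun a b h => ?_, fun c => ?_⟩⟩
  · exact Subtype.ext (Subtype.ext (E.mp_injective (mul_left_cancel (mul_right_cancel (congrArg Subtype.val h)))))
  · obtain ⟨hG, hF, ht⟩ := E.mem_cen.1 c.2
    obtain ⟨z, hz⟩ := E.conj_descent E.g_mem.1 E.g1_spec hG hF
    have hc : z ∈ Subgroup.centralizer ({x₀} : Set (twistedE6 K 2)) := by
      refine Subgroup.mem_centralizer_singleton_iff.2 (Subtype.ext (E.mp_injective ?_))
      rw [Subgroup.coe_mul, Subgroup.coe_mul, map_mul, map_mul, hz, hx₀]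
      calc E.g1 * c.1 * E.g1⁻¹ * (E.g1 * E.t * E.g1⁻¹) = E.g1 * (c.1 * E.t) * E.g1⁻¹ := by group
        _ = _ := by rw [← ht]; group
    refine ⟨⟨z, hc⟩, Subtype.ext ?_⟩
    show E.g1⁻¹ * E.mp z.1 * E.g1 = c.1
    rw [hz]; group

theorem exists_x₀ : ∃ x₀ : twistedE6 K 2, E.mp x₀.1 = E.g1 * E.t * E.g1⁻¹ :=
  E.conj_descent E.g_mem.1 E.g1_spec (E.q_mem _ _) E.Fw0_t

/-- The Sylow five subgroup. -/
noncomputable def syl : Subgroup (twistedE6 K 2) :=
  E.qHom.range.comap ((MulAut.conj E.gT⁻¹).toMonoidHom.comp (E.mp.comp (twistedE6 K 2).subtype))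

theorem mem_syl {z : twistedE6 K 2} : z ∈ E.syl ↔ E.gT⁻¹ * E.mp z.1 * E.gT ∈ E.qHom.range := by
  simp [syl]

theorem card_syl : Nat.card E.syl = 25 := by
  set φ := (MulAut.conj E.gT⁻¹).toMonoidHom.comp (E.mp.comp (twistedE6 K 2).subtype) with hφ
  have hle : E.qHom.range ≤ φ.range := by
    rintro _ ⟨x, rfl⟩
    obtain ⟨z, hz⟩ := E.conj_descent E.gT_mem E.gT_spec (y := E.qHom x) (E.q_mem _ _) (E.Fw_q _ _)
    refine ⟨z, ?_⟩
    show E.gT⁻¹ * E.mp z.1 * (E.gT⁻¹)⁻¹ = _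
    rw [hz]; group
  have hinj : Function.Injective φ :=
    (MulAut.conj E.gT⁻¹).injective.comp (E.mp_injective.comp Subtype.val_injective)
  rw [← Subgroup.card_map_of_injective (K := E.syl) hinj, syl, ← hφ, Subgroup.map_comap_eq_self hle,
    ← Nat.card_congr (MonoidHom.ofInjective E.qHom_injective).toEquiv, Nat.card_congr Multiplicative.toAdd,
    Nat.card_prod, Nat.card_zmod]

theorem card_W : Nat.card (twistedE6 K 2) = 76532479683774853939200 := by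
  haveI := E.finiteK
  letI := Fintype.ofFinite K
  have hK : Fintype.card K = 2 ^ 2 := by rw [← Nat.card_eq_fintype_card, E.cardK]; norm_num
  have h := E6.card_twisted (K := K) (Nat.Prime.isPrimePow Nat.prime_two) hK
  norm_num at h
  omega

theorem syl_sylow : ∃ P : Sylow 5 (twistedE6 K 2), (P : Subgroup (twistedE6 K 2)) = E.syl := by
  haveI : Fact (Nat.Prime 5) := ⟨by norm_num⟩
  have hP : IsPGroup 5 E.syl := IsPGroup.of_card (n := 2) (by rw [E.card_syl]; norm_num)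
  refine ⟨hP.toSylow ?_, hP.toSylow_coe _⟩
  have h := E.syl.index_mul_card
  rw [E.card_syl, E.card_W] at h
  omega

/-- All elements of order five are conjugate to the first one. -/
theorem isConj_x₀ (x₀ : twistedE6 K 2) (hx₀ : E.mp x₀.1 = E.g1 * E.t * E.g1⁻¹) (z : twistedE6 K 2)
    (hz : orderOf z = 5) : IsConj x₀ z := by
  haveI : Fact (Nat.Prime 5) := ⟨by norm_num⟩
  haveI : Finite (twistedE6 K 2) := Nat.finite_of_card_ne_zero (by rw [E.card_W]; norm_num)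
  obtain ⟨P, hP⟩ := E.syl_sylow
  obtain ⟨Q, hQ⟩ := (IsPGroup.of_card (p := 5) (n := 1) (G := Subgroup.zpowers z)
    (by rw [Nat.card_zpowers, hz, pow_one])).exists_le_sylow
  obtain ⟨g, hg⟩ := MulAction.exists_smul_eq (twistedE6 K 2) Q P
  have hw : g * z * g⁻¹ ∈ E.syl := by
    rw [← hP, ← hg, Sylow.coe_subgroup_smul]
    exact ⟨z, hQ (Subgroup.mem_zpowers z), rfl⟩
  refine IsConj.trans ?_ (isConj_iff.2 ⟨g, rfl⟩ : IsConj z (g * z * g⁻¹)).symm
  obtain ⟨x, hx⟩ := E.mem_syl.1 hw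
  obtain ⟨⟨a, b⟩, rfl⟩ := Multiplicative.ofAdd.surjective x
  rw [E.qHom_apply] at hx
  have hab : a.val ≠ 0 ∨ b.val ≠ 0 := by
    by_contra hne
    push Not at hne
    rw [hne.1, hne.2, Nat.cast_zero, E.q_zero] at hx
    have h1 : E.mp (g * z * g⁻¹).1 = 1 := by
      calc E.mp (g * z * g⁻¹).1 = E.gT * (E.gT⁻¹ * E.mp (g * z * g⁻¹).1 * E.gT) * E.gT⁻¹ := by group
        _ = 1 := by rw [← hx]; group
    have h2 : g * z * g⁻¹ = 1 := Subtype.ext (E.mp_injective (by rw [h1]; simp))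
    rw [conj_eq_one_iff] at h2
    rw [h2, orderOf_one] at hz
    norm_num at hz
  set a' : Fin 5 := ⟨a.val, ZMod.val_lt a⟩
  set b' : Fin 5 := ⟨b.val, ZMod.val_lt b⟩
  obtain ⟨h0, hh0⟩ := E.conj_descent E.gT_mem E.gT_spec (E.nU_mem a' b') (E.Fw_nU a' b')
  refine isConj_iff.2 ⟨h0, Subtype.ext (E.mp_injective ?_)⟩
  rw [Subgroup.coe_mul, Subgroup.coe_mul, Subgroup.coe_inv, map_mul, map_mul, map_inv, hh0, hx₀, ← E.gT_t]
  calc E.gT * E.nU a' b' * E.gT⁻¹ * (E.gT * E.t * E.gT⁻¹) * (E.gT * E.nU a' b' * E.gT⁻¹)⁻¹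
      = E.gT * (E.nU a' b' * E.t * (E.nU a' b')⁻¹) * E.gT⁻¹ := by group
    _ = E.gT * (E.gT⁻¹ * E.mp (g * z * g⁻¹).1 * E.gT) * E.gT⁻¹ := by rw [E.nU_t (a := a') (b := b') hab, hx]
    _ = _ := by group

end Dat

/-- The statement. -/
theorem order_five (K : Type u) [Field K] [Fintype K] (hK : Fintype.card K = 4) :
    (∀ x y : twistedE6 K 2, orderOf x = 5 → orderOf y = 5 → IsConj x y) ∧
      ∀ x : twistedE6 K 2, orderOf x = 5 →
        Nonempty (Subgroup.centralizer ({x} : Set (twistedE6 K 2)) ≃*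
          Multiplicative (ZMod 5) × alternatingGroup (Fin 8)) := by
  obtain ⟨L, hL, ⟨E⟩⟩ := exists_dat K hK
  obtain ⟨x₀, hx₀⟩ := E.exists_x₀
  refine ⟨fun x y hx hy => (E.isConj_x₀ x₀ hx₀ x hx).symm.trans (E.isConj_x₀ x₀ hx₀ y hy), fun x hx => ?_⟩
  obtain ⟨e1⟩ := centralizer_equiv (E.isConj_x₀ x₀ hx₀ x hx).symm
  obtain ⟨e2⟩ := E.cent_equiv x₀ hx₀
  obtain ⟨e3⟩ := E.cen_equiv
  exact ⟨e1.trans (e2.trans e3)⟩

end Cfsg.Agent.Lib.E6TwoFive
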