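import Cfsg.Agent.Lib.E6TwoFive.Cent
import Cfsg.Agent.Lib.GL4Two
import Mathlib.LinearAlgebra.Matrix.Transvection

/-!
The action of the centraliser on a four dimensional eigenspace: it is the product of the scalars of
order five and GL₄(2).
-/

set_option autoImplicit false
set_option maxRecDepth 100000
set_option linter.unusedSectionVars false
set_option linter.style.haveILetI false

namespace Cfsg.Agent.Lib.E6TwoFive

open Cfsg.Lie Cfsg.Agent.Lib.ChevStructure Cfsg.Agent.Lib.LieTwisted.Twist
open scoped MatrixGroups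

universe u w

theorem oTab_lt : ∀ i : Fin 4, oTab.getD i.val 0 < 72 := by decide +kernel

/-- The four roots of the eigenspace. -/
def oR (i : Fin 4) : Rt chevE6 := rt (oTab.getD i.val 0) (oTab_lt i)

/-- Their places among the coordinates. -/
def oI (i : Fin 4) : chevE6.Idx := Sum.inr (oR i)

theorem oI_injective : Function.Injective oI := by
  intro i j h
  have h' := Sum.inr.inj h
  revert h'
  revert i j
  decide +kernel

theorem stable_facts : ∀ s : Rt chevE6, inS s = true → ∀ k : Fin 4, ∀ a : chevE6.Idx, (∀ i, a ≠ oI i) →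
    ∀ j : Fin 4, ChevStructure.E chevE6 k.val s a (oI j) = 0 := by decide +kernel

theorem ev_oR : ∀ i : Fin 4, (5 : ℤ) ∣ ev cv1 (oR i).val - 4 := by decide +kernel

theorem block_facts : ∀ a b : Fin 4, a ≠ b → ∃ s : Rt chevE6, inS s = true ∧ ∀ i j : Fin 4,
    (∑ k ∈ Finset.range 4, ChevStructure.E chevE6 k s (oI i) (oI j)) % 2 =
      if i = j ∨ (i = a ∧ j = b) then 1 else 0 := by decide +kernel

theorem S_fix : ∀ r : Rt chevE6, inS r = true → pf [0] (piTab r.val) = r.val := by decide +kernel

theorem gen_roots : (inS (rt 69) = true ∧ inS (rt 69).rev = true) ∧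
    ∀ i : I6, (i.val = 1 ∨ i.val = 3) →
      inS (rt (pTab.getD i.val 0 % 72) (Nat.mod_lt _ (by norm_num))) = true ∧
      inS (rt (pTab.getD i.val 0 % 72) (Nat.mod_lt _ (by norm_num))).rev = true ∧ pTab.getD i.val 0 < 72 := by
  decide +kernel

theorem zmod2_cases : ∀ a : ZMod 2, a = 0 ∨ a = 1 := by decide

theorem wd_append (A B : List ℕ) : wd (A ++ B) = wd A ++ wd B := List.filterMap_append

section Block

variable {L : Type w} [Field L]

/-- The columns of the four roots live on these roots. -/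
def Stable (g : GL chevE6.Idx L) : Prop :=
  ∀ (a : chevE6.Idx) (j : Fin 4), (∀ i, a ≠ oI i) → (g : Matrix chevE6.Idx chevE6.Idx L) a (oI j) = 0

/-- The block of the four roots. -/
def block (g : GL chevE6.Idx L) : Matrix (Fin 4) (Fin 4) L :=
  Matrix.of fun i j => (g : Matrix chevE6.Idx chevE6.Idx L) (oI i) (oI j)

theorem sum_oI (f : chevE6.Idx → L) (h : ∀ a, (∀ i, a ≠ oI i) → f a = 0) : ∑ a, f a = ∑ i, f (oI i) := by
  classical
  rw [← Finset.sum_image (f := f) (oI_injective.injOn)]
  refine (Finset.sum_subset (Finset.subset_univ _) fun a _ ha => h a fun i e => ha ?_).symm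
  exact Finset.mem_image.2 ⟨i, Finset.mem_univ _, e.symm⟩

theorem Stable.mul {g h : GL chevE6.Idx L} (hg : Stable g) (hh : Stable h) : Stable (g * h) := by
  intro a j ha
  rw [Units.val_mul, Matrix.mul_apply, sum_oI _ fun x hx => by rw [hh x j hx, mul_zero]]
  exact Finset.sum_eq_zero fun i _ => by rw [hg a i ha, zero_mul]

theorem block_mul {g h : GL chevE6.Idx L} (hh : Stable h) : block (g * h) = block g * block h := by
  ext i j
  rw [block, Matrix.of_apply, Units.val_mul, Matrix.mul_apply, sum_oI _ fun x hx => by rw [hh x j hx, mul_zero],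
    Matrix.mul_apply]
  rfl

theorem stable_one : Stable (1 : GL chevE6.Idx L) := fun a j h => by
  rw [Units.val_one, Matrix.one_apply_ne (h j)]

theorem block_one : block (1 : GL chevE6.Idx L) = 1 := by
  ext i j
  rw [block, Matrix.of_apply, Units.val_one, Matrix.one_apply, Matrix.one_apply]
  exact if_congr oI_injective.eq_iff rfl rfl

variable (L) in
/-- The elements preserving the eigenspace. -/
def stab [Finite L] : Subgroup (GL chevE6.Idx L) where
  carrier := {g | Stable g}
  one_mem' := stable_one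
  mul_mem' := Stable.mul
  inv_mem' {g} hg := by
    have h : ∀ n : ℕ, Stable (g ^ n) := fun n => by
      induction n with
      | zero => rw [pow_zero]; exact stable_one
      | succ n ih => rw [pow_succ]; exact ih.mul hg
    have e : g ^ (orderOf g - 1) = g⁻¹ := by
      refine eq_inv_of_mul_eq_one_left ?_
      rw [← pow_succ, Nat.sub_add_cancel (orderOf_pos g), pow_orderOf_eq_one]
    show Stable g⁻¹
    exact e ▸ h _

theorem X_stable {s : Rt chevE6} (hs : inS s = true) (x : L) : Stable (C.X L s x) := by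
  intro a j ha
  rw [C.X_val, xI, Matrix.sum_apply]
  refine Finset.sum_eq_zero fun k hk => ?_
  rw [Matrix.smul_apply, Ek, Matrix.map_apply, stable_facts s hs ⟨k, Finset.mem_range.1 hk⟩ a ha j]
  simp

theorem block_X_one (s : Rt chevE6) (i j : Fin 4) :
    block (C.X L s 1) i j = ((∑ k ∈ Finset.range 4, ChevStructure.E chevE6 k s (oI i) (oI j) : ℤ) : L) := by
  rw [block, Matrix.of_apply, C.X_val, xI, Matrix.sum_apply, Int.cast_sum]
  refine Finset.sum_congr rfl fun k _ => ?_
  rw [Matrix.smul_apply, Ek, Matrix.map_apply, one_pow, one_smul]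
  rfl

theorem HT_stable (c : I6 → Lˣ) : Stable (C.HT L c) := by
  intro a j h
  simp [Core.HT, Core.diag, Matrix.diagonal_apply_ne _ (h j)]

theorem block_HT (c : I6 → Lˣ) : block (C.HT L c) = Matrix.diagonal fun i => (C.chA c (oR i) : L) := by
  ext i j
  rw [block, Matrix.of_apply]
  simp only [Core.HT, Core.diag, Matrix.diagonal_apply, oI_injective.eq_iff]
  rfl

variable [CharP L 2] [Finite L]

theorem wprod_stable (l : List ℕ) : C.wprod L (wd (l.map fun k => a3Gen.getD k []).flatten) ∈ stab L := by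
  induction l with
  | nil => simp [wd, toFinL, Core.wprod, one_mem]
  | cons k l ih =>
    rw [List.map_cons, List.flatten_cons, wd_append, C.wprod_append]
    refine mul_mem ?_ ih
    have hX : ∀ r : Rt chevE6, inS r = true → ∀ x : L, C.X L r x ∈ stab L := fun r hr x => X_stable hr x
    have hn : ∀ r : Rt chevE6, inS r = true → inS r.rev = true → C.nR L r 1 ∈ stab L := fun r h h' => by
      rw [nR_one]; exact mul_mem (mul_mem (hX r h 1) (hX _ h' 1)) (hX r h 1)
    have hP : ∀ i : I6, (i.val = 1 ∨ i.val = 3) → C.wprod L [i] ∈ stab L := fun i hi => by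
      obtain ⟨h1, h2, h3⟩ := gen_roots.2 i hi
      rw [← nR_simple (L := L) h3 i rfl]
      have e : rt (pTab.getD i.val 0 % 72) (Nat.mod_lt _ (by norm_num)) = rt (pTab.getD i.val 0) h3 :=
        Fin.ext (Nat.mod_eq_of_lt h3)
      rw [e] at h1 h2
      exact hn _ h1 h2
    match k with
    | 0 => exact hP ⟨1, by decide⟩ (Or.inl rfl)
    | 1 => exact hP ⟨3, by decide⟩ (Or.inr rfl)
    | 2 =>
      show C.wprod L (wd L69) ∈ stab L
      rw [← nR_69]
      exact hn _ gen_roots.1.1 gen_roots.1.2
    | k + 3 => simp [a3Gen, wd, toFinL, Core.wprod, one_mem]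

end Block

theorem Lu_sub (j : Fin 24) : ∀ r ∈ Lu j, r ∈ Lv := fun _ hr => (List.mem_filter.1 hr).1

theorem Lv_inS {r : Rt chevE6} (hr : r ∈ Lv) : inS r = true := by
  have h := (List.mem_filter.1 hr).2
  simp only [Bool.and_eq_true] at h
  exact h.2

/-- The scalars of order five. -/
noncomputable def scal {L : Type w} [Field L] (ζ : Lˣ) (hζ : orderOf ζ = 5) :
    Multiplicative (ZMod 5) →* GL (Fin 4) L :=
  (Units.map (Matrix.scalar (Fin 4) : L →+* Matrix (Fin 4) (Fin 4) L).toMonoidHom).comp
    { toFun := fun k => ζ ^ k.toAdd.val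
      map_one' := by simp
      map_mul' := fun x y => by
        have h5 : ζ ^ 5 = 1 := hζ ▸ pow_orderOf_eq_one ζ
        rw [toAdd_mul, ZMod.val_add, ← pow_eq_pow_mod _ h5, pow_add] }

namespace Dat

variable {K : Type u} [Field K] {L : Type w} [Field L] (E : Dat K L)
include E

theorem cen_stable {y : GL chevE6.Idx L} (hy : y ∈ E.cen) : Stable y := by
  haveI := E.finiteL
  haveI := E.char
  obtain ⟨x, rfl⟩ := E.exists_form hy
  have hw : ∀ (M : List (Rt chevE6)), (∀ r ∈ M, inS r = true) → ∀ b, bword (L := L) M b ∈ stab L := by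
    intro M hM b
    refine list_prod_mem fun g hg => ?_
    obtain ⟨i, rfl⟩ := List.mem_ofFn.1 hg
    exact X_stable (hM _ (List.getElem_mem _)) _
  have : bword (L := L) Lv x.2.1 * E.t ^ x.2.2.1.val * C.wprod L (wd (a3Word x.1.val)) *
      bword (L := L) (Lu x.1) x.2.2.2 ∈ stab L :=
    mul_mem (mul_mem (mul_mem (hw _ (fun r hr => Lv_inS hr) _) (pow_mem (HT_stable _) _)) (wprod_stable _))
      (hw _ (fun r hr => Lv_inS (Lu_sub _ r hr)) _)
  exact this

/-- The representation on the eigenspace. -/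
noncomputable def rep : E.cen →* GL (Fin 4) L :=
  MonoidHom.toHomUnits
    { toFun := fun y => block (y : GL chevE6.Idx L)
      map_one' := block_one
      map_mul' := fun _ y => block_mul (E.cen_stable y.2) }

theorem rep_val (y : E.cen) : (E.rep y : Matrix (Fin 4) (Fin 4) L) = block (y : GL chevE6.Idx L) := rfl

theorem t_mem_cen : E.t ∈ E.cen := E.mem_cen.2 ⟨E.q_mem _ _, E.Fw0_t, rfl⟩

theorem X_mem_cen {s : Rt chevE6} (hs : inS s = true) : C.X L s 1 ∈ E.cen :=
  E.mem_cen.2 ⟨C.X_mem_group _ _,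
    by rw [E.Fw_X (M := [0]) (by decide) (S_fix s hs) 1, one_pow],
    (E.commute_t_X ((inS_iff s).1 hs) 1).eq⟩

/-- The model of the centraliser. -/
noncomputable def model : Multiplicative (ZMod 5) × GL (Fin 4) (ZMod 2) →* GL (Fin 4) L :=
  haveI := E.char
  MonoidHom.noncommCoprod (scal E.ζ E.hζ)
    (Matrix.GeneralLinearGroup.map (ZMod.castHom (dvd_refl 2) L)) fun k A => Units.ext (by
      show Matrix.scalar (Fin 4) _ * _ = _ * Matrix.scalar (Fin 4) _
      exact (Matrix.scalar_commute _ (fun r => Commute.all _ r) _).eq)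

theorem model_apply (x : Multiplicative (ZMod 5) × GL (Fin 4) (ZMod 2)) :
    haveI := E.char
    (E.model x : Matrix (Fin 4) (Fin 4) L) = ((E.ζ ^ x.1.toAdd.val : Lˣ) : L) •
      (x.2 : Matrix (Fin 4) (Fin 4) (ZMod 2)).map (ZMod.castHom (dvd_refl 2) L) := by
  haveI := E.char
  rw [Matrix.smul_eq_diagonal_mul]
  rfl

theorem model_injective : Function.Injective E.model := by
  haveI := E.char
  refine (injective_iff_map_eq_one _).2 fun x hx => ?_
  obtain ⟨k, A⟩ := x
  have e := congrArg Units.val hx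
  rw [E.model_apply, Units.val_one] at e
  simp only at e
  set z : L := ((E.ζ ^ k.toAdd.val : Lˣ) : L) with hz
  have hz0 : z ≠ 0 := Units.ne_zero _
  have hij : ∀ i j, z * ZMod.castHom (dvd_refl 2) L ((A : Matrix (Fin 4) (Fin 4) (ZMod 2)) i j) =
      (1 : Matrix (Fin 4) (Fin 4) L) i j := fun i j => by
    rw [← e, Matrix.smul_apply, Matrix.map_apply, smul_eq_mul]
  have hz1 : z = 1 := by
    have h00 := hij 0 0
    rw [Matrix.one_apply_eq] at h00
    rcases zmod2_cases ((A : Matrix (Fin 4) (Fin 4) (ZMod 2)) 0 0) with h | h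
    · rw [h, map_zero, mul_zero] at h00; exact absurd h00 zero_ne_one
    · rw [h, map_one, mul_one] at h00; exact h00
  have hA : A = 1 := by
    refine Units.ext (Matrix.ext fun i j => RingHom.injective (ZMod.castHom (dvd_refl 2) L) ?_)
    have h := hij i j
    rw [hz1, one_mul] at h
    rw [h, Units.val_one, Matrix.one_apply, Matrix.one_apply]
    split <;> simp
  have hk : k.toAdd = 0 := by
    have h5 : (5 : ℕ) ∣ k.toAdd.val := by
      have h := orderOf_dvd_of_pow_eq_one (show E.ζ ^ k.toAdd.val = 1 from Units.ext hz1)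
      exact (dvd_of_eq E.hζ.symm).trans h
    exact (ZMod.val_eq_zero _).1 (Nat.eq_zero_of_dvd_of_lt h5 (ZMod.val_lt _))
  exact Prod.ext (toAdd_eq_zero.1 hk) hA

theorem range_le : E.model.range ≤ E.rep.range := by
  haveI := E.char
  set ι := Matrix.GeneralLinearGroup.map (n := Fin 4) (ZMod.castHom (dvd_refl 2) L)
  have hA : ∀ A : GL (Fin 4) (ZMod 2), ι A ∈ E.rep.range := by
    haveI : Fact (Nat.Prime 2) := ⟨Nat.prime_two⟩
    intro A
    refine Matrix.diagonal_transvection_induction_of_det_ne_zero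
      (fun M => ∀ B : GL (Fin 4) (ZMod 2), (B : Matrix (Fin 4) (Fin 4) (ZMod 2)) = M → ι B ∈ E.rep.range)
      (A : Matrix (Fin 4) (Fin 4) (ZMod 2)) A.det_ne_zero ?_ ?_ ?_ A rfl
    · intro D hD B hB
      have hD1 : D = fun _ => 1 := by
        rw [Matrix.det_diagonal, Finset.prod_ne_zero_iff] at hD
        funext i
        exact (zmod2_cases _).resolve_left (hD i (Finset.mem_univ _))
      rw [hD1, Matrix.diagonal_one] at hB
      rw [show B = 1 from Units.ext hB, map_one]
      exact one_mem _
    · rintro ⟨a, b, hab, c⟩ B hB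
      rcases zmod2_cases c with rfl | rfl
      · rw [show B = 1 from Units.ext (hB.trans (by simp [Matrix.TransvectionStruct.toMatrix])), map_one]
        exact one_mem _
      obtain ⟨s, hs, hblk⟩ := block_facts a b hab
      refine ⟨⟨C.X L s 1, E.X_mem_cen hs⟩, Units.ext (Matrix.ext fun i j => ?_)⟩
      show block (C.X L s 1) i j = ZMod.castHom (dvd_refl 2) L ((B : Matrix (Fin 4) (Fin 4) (ZMod 2)) i j)
      rw [block_X_one, ← map_intCast (ZMod.castHom (dvd_refl 2) L), hB]
      congr 1
      rw [← ZMod.intCast_mod, show ((2 : ℕ) : ℤ) = 2 from rfl, hblk i j]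
      simp only [Matrix.TransvectionStruct.toMatrix, Matrix.transvection, Matrix.add_apply,
        Matrix.one_apply, Matrix.single_apply]
      by_cases h1 : i = j <;> by_cases h2 : i = a ∧ j = b
      · exact absurd (h2.1.symm.trans (h1.trans h2.2)) hab
      · rw [if_pos (Or.inl h1), if_pos h1, if_neg (fun h => h2 ⟨h.1.symm, h.2.symm⟩)]; simp
      · rw [if_pos (Or.inr h2), if_neg h1, if_pos ⟨h2.1.symm, h2.2.symm⟩]; simp
      · rw [if_neg (by tauto), if_neg h1, if_neg (fun h => h2 ⟨h.1.symm, h.2.symm⟩)]; simp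
    · intro M N hM hN ihM ihN B hB
      set BM := Matrix.GeneralLinearGroup.mkOfDetNeZero M hM
      set BN := Matrix.GeneralLinearGroup.mkOfDetNeZero N hN
      rw [show B = BM * BN from Units.ext hB, map_mul]
      exact mul_mem (ihM BM rfl) (ihN BN rfl)
  rintro _ ⟨⟨k, A⟩, rfl⟩
  show scal E.ζ E.hζ k * ι A ∈ E.rep.range
  refine mul_mem ⟨⟨E.t, E.t_mem_cen⟩ ^ (4 * k.toAdd.val), Units.ext ?_⟩ (hA A)
  rw [E.rep_val, SubgroupClass.coe_pow, E.t_pow, q, block_HT]
  show Matrix.diagonal _ = Matrix.diagonal fun _ : Fin 4 => ((E.ζ ^ k.toAdd.val : Lˣ) : L)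
  refine congrArg Matrix.diagonal (funext fun i => congrArg Units.val ?_)
  rw [E.chA_τ, ← zpow_natCast E.ζ k.toAdd.val, E.ζ_zpow, zero_mul, add_zero,
    show ((4 * k.toAdd.val : ℕ) : ℤ) * ev cv1 (oR i).val - (k.toAdd.val : ℤ) =
      ((4 * k.toAdd.val : ℕ) : ℤ) * (ev cv1 (oR i).val - 4) + (15 * (k.toAdd.val : ℤ)) by push_cast; ring]
  exact dvd_add ((ev_oR i).mul_left _) (Dvd.dvd.mul_right (by norm_num) _)

theorem card_model : Nat.card (Multiplicative (ZMod 5) × GL (Fin 4) (ZMod 2)) = 100800 := by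
  rw [Nat.card_prod, GL4Two.card_GL, Nat.card_congr Multiplicative.toAdd, Nat.card_zmod]

/-- The centraliser is the product of a group of order five and A₈. -/
theorem cen_equiv : Nonempty (E.cen ≃* Multiplicative (ZMod 5) × alternatingGroup (Fin 8)) := by
  haveI := E.finiteL
  have hm : Nat.card E.model.range = 100800 := by
    rw [← Nat.card_congr (MonoidHom.ofInjective E.model_injective).toEquiv, E.card_model]
  have h1 : Nat.card E.cen ≤ Nat.card E.rep.range :=
    E.card_cen_le.trans (hm ▸ Subgroup.card_le_of_le E.range_le)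
  have hbij : Function.Bijective E.rep.rangeRestrict := E.rep.rangeRestrict_surjective.bijective_of_nat_card_le h1
  have heq : E.model.range = E.rep.range := by
    refine Subgroup.eq_of_le_of_card_ge E.range_le ?_
    rw [hm]
    exact (Nat.card_le_card_of_surjective _ E.rep.rangeRestrict_surjective).trans E.card_cen_le
  exact ⟨(MulEquiv.ofBijective _ hbij).trans ((MulEquiv.subgroupCongr heq.symm).trans
    ((MonoidHom.ofInjective E.model_injective).symm.trans ((MulEquiv.refl _).prodCongr GL4Two.equiv)))⟩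

end Dat

end Cfsg.Agent.Lib.E6TwoFive
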