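import Cfsg.Agent.Lib.LieTwisted.Twist.E6

/-!
Tables for the elements of order five of ²E₆(2): roots are numbered as in the datum, reflections,
the roots orthogonal to the element, and words in the fundamental reflections.
-/

set_option autoImplicit false
set_option maxRecDepth 100000
set_option linter.style.longLine false

namespace Cfsg.Agent.Lib.E6TwoFive

open Cfsg.Lie Cfsg.Agent.Lib.ChevStructure

/-- The fundamental reflections on root numbers. -/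
def wTab : List (List ℕ) :=
  [[0, 1, 2, 3, 4, 16, 17, 18, 19, 20, 21, 26, 27, 28, 29, 56, 5, 6, 7, 8, 9, 10, 22, 23, 24, 25, 11, 12, 13, 14, 30, 31, 32, 33, 34, 35, 36, 37, 38, 39, 40, 41, 57, 58, 59, 60, 46, 47, 48, 49, 61, 62, 63, 64, 65, 66, 15, 42, 43, 44, 45, 50, 51, 52, 53, 54, 55, 67, 68, 69, 70, 71],
  [1, 0, 2, 3, 4, 5, 6, 7, 11, 12, 13, 8, 9, 10, 14, 15, 16, 17, 18, 26, 27, 28, 30, 31, 32, 46, 19, 20, 21, 29, 22, 23, 24, 33, 34, 35, 36, 37, 38, 47, 48, 49, 42, 50, 51, 52, 25, 39, 40, 41, 43, 44, 45, 53, 54, 55, 56, 57, 61, 62, 63, 58, 59, 60, 64, 65, 66, 67, 68, 69, 71, 70],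
  [0, 1, 5, 6, 7, 2, 3, 4, 8, 9, 10, 11, 12, 13, 15, 14, 16, 17, 18, 22, 23, 24, 19, 20, 21, 25, 30, 31, 32, 42, 26, 27, 28, 33, 34, 35, 36, 37, 38, 43, 44, 45, 29, 39, 40, 41, 46, 50, 51, 52, 47, 48, 49, 53, 54, 55, 57, 56, 58, 59, 60, 61, 62, 63, 67, 68, 69, 64, 65, 66, 70, 71],
  [0, 2, 1, 3, 4, 5, 8, 9, 6, 7, 10, 11, 12, 14, 13, 15, 16, 19, 20, 17, 18, 21, 22, 23, 25, 24, 26, 27, 29, 28, 33, 34, 39, 30, 31, 35, 36, 40, 41, 32, 37, 38, 43, 42, 44, 45, 47, 46, 48, 49, 50, 53, 54, 51, 52, 55, 56, 58, 57, 59, 60, 61, 64, 65, 62, 63, 66, 67, 68, 70, 69, 71],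
  [0, 1, 3, 2, 4, 6, 5, 7, 8, 10, 9, 11, 13, 12, 14, 15, 17, 16, 18, 19, 21, 20, 22, 24, 23, 25, 26, 28, 27, 29, 30, 32, 31, 35, 37, 33, 38, 34, 36, 40, 39, 41, 42, 44, 43, 45, 46, 48, 47, 49, 51, 50, 52, 53, 55, 54, 56, 57, 59, 58, 60, 62, 61, 63, 64, 66, 65, 67, 69, 68, 70, 71],
  [0, 1, 2, 4, 3, 5, 7, 6, 9, 8, 10, 12, 11, 13, 14, 15, 16, 18, 17, 20, 19, 21, 23, 22, 24, 25, 27, 26, 28, 29, 31, 30, 32, 34, 33, 36, 35, 38, 37, 39, 41, 40, 42, 43, 45, 44, 46, 47, 49, 48, 50, 52, 51, 54, 53, 55, 56, 57, 58, 60, 59, 61, 63, 62, 65, 64, 66, 68, 67, 69, 70, 71]]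

/-- The numbers of the fundamental roots. -/
def pTab : List ℕ := [56, 46, 42, 39, 37, 36]

/-- The symmetry of the diagram. -/
def rhoTab : List ℕ := [5, 1, 4, 3, 2, 0]

/-- The roots orthogonal to the element, negative ones first. -/
def sTab : List ℕ := [0, 1, 2, 24, 25, 32, 39, 46, 47, 69, 70, 71]

/-- The positive ones. -/
def sPos : List ℕ := [39, 46, 47, 69, 70, 71]

/-- A word for the reflection in the root 69. -/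
def L69 : List ℕ := [2, 0, 4, 3, 1, 2, 3, 4, 5, 4, 3, 2, 1, 3, 4, 0, 2]

/-- The word of the twisting element. -/
def Lw : List ℕ := [3, 1] ++ L69 ++ [0]

/-- The exponents of the element on the torus. -/
def cv1 : List ℤ := [1, 0, 0, 0, 0, 2]

/-- The exponents of a second element. -/
def cv2 : List ℤ := [3, 3, 3, 4, 3, 2]

/-- Words commuting with the twist that move the first element to all others. -/
def uTab : List (List ℕ) :=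
  [[],
  [0, 1, 2, 0, 3, 1, 4, 3, 1, 2, 3],
  [0, 2, 3, 1, 2, 0, 3, 5, 4, 3, 1, 2, 0],
  [0, 2, 3, 1, 2, 0, 3, 4, 5, 4, 3, 1, 2],
  [0, 1, 2, 0, 3, 1, 4, 3, 1, 2, 0, 3, 5],
  [],
  [0, 1, 2, 3, 1, 2, 4, 3, 1, 2, 5, 4, 3, 1, 2, 0],
  [0, 1, 2, 4, 3, 5, 4, 3, 1, 2, 0, 3, 4],
  [2, 3, 1, 2, 0, 3, 4, 3, 1, 2, 5],
  [0, 3, 1, 2, 4, 3, 1, 2, 0, 3, 4, 5, 4],
  [2, 0, 3, 2, 4, 3, 2, 0, 5, 4, 3, 2, 0],
  [1, 2, 0, 3, 1, 5, 4, 3, 1, 2, 3],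
  [1, 3, 1, 2, 0, 4, 3, 1, 2, 0, 3, 2, 4, 3, 1, 5],
  [1, 2, 4, 3, 1, 2, 3, 4, 5, 4, 3],
  [3, 1, 2, 4, 5, 4, 3, 1, 2, 0, 3, 4, 5],
  [0, 2, 0, 3, 2, 4, 3, 2, 0, 5, 4, 3, 2],
  [3, 1, 2, 4, 5, 4, 3, 1, 2, 3, 4],
  [1, 2, 4, 3, 1, 2, 0, 3, 5, 4, 3],
  [1, 3, 2, 0, 4, 3, 1, 2, 0, 3, 2, 4, 3, 1],
  [1, 2, 0, 3, 1, 4, 5, 4, 3, 1, 2, 0, 3],
  [0, 5],
  [0, 3, 1, 2, 4, 3, 1, 2, 3, 5, 4],
  [2, 3, 1, 2, 0, 3, 4, 3, 1, 2, 0],
  [0, 1, 2, 4, 3, 5, 4, 3, 1, 2, 3, 4, 5],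
  [0, 1, 2, 3, 1, 2, 3, 4, 3, 1, 2, 5, 4, 3, 1, 2]]

/-- The elements of the Weyl group of the orthogonal roots as words in three reflections. -/
def a3Tab : List (List ℕ) :=
  [[],
  [0],
  [1],
  [2],
  [0, 1],
  [0, 2],
  [1, 0],
  [1, 2],
  [2, 1],
  [0, 1, 0],
  [0, 1, 2],
  [0, 2, 1],
  [1, 0, 2],
  [1, 2, 1],
  [2, 1, 0],
  [0, 1, 0, 2],
  [0, 1, 2, 1],
  [0, 2, 1, 0],
  [1, 0, 2, 1],
  [1, 2, 1, 0],
  [0, 1, 0, 2, 1],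
  [0, 1, 2, 1, 0],
  [1, 0, 2, 1, 0],
  [0, 1, 0, 2, 1, 0]]

/-- The three reflections. -/
def a3Gen : List (List ℕ) := [[1], [3], L69]

/-- The word of an element of the small Weyl group. -/
def a3Word (j : ℕ) : List ℕ := ((a3Tab.getD j []).map fun k => a3Gen.getD k []).flatten

/-- The images of the fundamental roots under the small Weyl group. -/
def a3Img : List (List ℕ) :=
  [[56, 46, 42, 39, 37, 36],
  [56, 25, 42, 47, 37, 36],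
  [56, 47, 43, 32, 40, 36],
  [56, 46, 5, 70, 3, 36],
  [56, 39, 50, 24, 48, 36],
  [56, 25, 5, 71, 3, 36],
  [56, 24, 43, 46, 40, 36],
  [56, 47, 5, 69, 3, 36],
  [56, 71, 43, 1, 40, 36],
  [56, 32, 50, 25, 48, 36],
  [56, 39, 5, 69, 3, 36],
  [56, 70, 50, 0, 48, 36],
  [56, 24, 5, 71, 3, 36],
  [56, 71, 42, 2, 37, 36],
  [56, 0, 43, 46, 40, 36],
  [56, 32, 5, 70, 3, 36],
  [56, 70, 42, 2, 37, 36],
  [56, 1, 50, 25, 48, 36],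
  [56, 69, 50, 0, 48, 36],
  [56, 0, 42, 47, 37, 36],
  [56, 69, 43, 1, 40, 36],
  [56, 1, 42, 39, 37, 36],
  [56, 2, 50, 24, 48, 36],
  [56, 2, 43, 32, 40, 36]]

/-- The basis of the four dimensional module. -/
def oTab : List ℕ := [10, 13, 14, 55]

/-- A word applied to a root number. -/
def pf (L : List ℕ) (r : ℕ) : ℕ := L.foldr (fun i x => (wTab.getD i []).getD x 0) r

/-- Exponent of a torus element at a root. -/
def ev (cv : List ℤ) (r : ℕ) : ℤ :=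
  ((List.range 6).map fun j => cv.getD j 0 * chevE6.cartan j r).sum

end Cfsg.Agent.Lib.E6TwoFive
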