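import Cfsg.Agent.Lib.E6TwoFive.Twist

/-!
The elementary abelian group of order twenty-five on the torus, and the Weyl elements which move the
element of order five to the other ones.
-/

set_option autoImplicit false
set_option maxRecDepth 100000
set_option linter.unusedSectionVars false
set_option linter.style.haveILetI false

namespace Cfsg.Agent.Lib.E6TwoFive

open Cfsg.Lie Cfsg.Agent.Lib.ChevStructure Cfsg.Agent.Lib.LieTwisted.Twist
open scoped MatrixGroups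

universe u w

theorem ev_eq : ∀ r : Rt chevE6,
    (∑ j : I6, cv1.getD j.val 0 * A chevE6 j r) = ev cv1 r.val ∧
      (∑ j : I6, cv2.getD j.val 0 * A chevE6 j r) = ev cv2 r.val := by decide +kernel

theorem ev_frob : ∀ r : Rt chevE6,
    (5 : ℤ) ∣ 2 * ev cv1 r.val - ev cv1 (pf Lw (piTab r.val)) ∧
    (5 : ℤ) ∣ 2 * ev cv2 r.val - ev cv2 (pf Lw (piTab r.val)) ∧
    (5 : ℤ) ∣ 2 * ev cv1 r.val - ev cv1 (pf [0] (piTab r.val)) := by decide +kernel

theorem ev_S : ∀ n ∈ [46, 25, 69, 2, 39, 32, 71, 0], (5 : ℤ) ∣ ev cv1 n := by decide +kernel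

theorem uTab_lt : ∀ k : Fin 25, ∀ i ∈ uTab.getD k.val [], i < chevE6.rank := by decide +kernel

theorem uTab_comm : ∀ k : Fin 25, ∀ r : Rt chevE6,
    pf ((wd Lw ++ (wd (uTab.getD k.val [])).map ρ0).map Fin.val) r.val =
      pf ((wd (uTab.getD k.val []) ++ wd Lw).map Fin.val) r.val := by decide +kernel

theorem uTab_ev : ∀ a b : Fin 5, (a.val ≠ 0 ∨ b.val ≠ 0) → ∀ r : Rt chevE6,
    (5 : ℤ) ∣ (a.val : ℤ) * ev cv1 (pf (uTab.getD (5 * a.val + b.val) []) r.val) +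
      (b.val : ℤ) * ev cv2 (pf (uTab.getD (5 * a.val + b.val) []) r.val) - ev cv1 r.val := by decide +kernel

theorem ev_sep : ∀ a b : Fin 5, (∀ r : Rt chevE6,
    (5 : ℤ) ∣ (a.val : ℤ) * ev cv1 r.val + (b.val : ℤ) * ev cv2 r.val) → a = 0 ∧ b = 0 := by decide +kernel

namespace Dat

variable {K : Type u} [Field K] {L : Type w} [Field L] (E : Dat K L)
include E

theorem ζ_zpow {x y : ℤ} : E.ζ ^ x = E.ζ ^ y ↔ (5 : ℤ) ∣ x - y := by
  rw [← mul_inv_eq_one, ← zpow_sub, ← orderOf_dvd_iff_zpow_eq_one, E.hζ]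
  rfl

/-- The exponents of a torus element. -/
noncomputable def τ (a b : ℤ) : I6 → Lˣ := fun j => E.ζ ^ (a * cv1.getD j.val 0 + b * cv2.getD j.val 0)

theorem chA_τ (a b : ℤ) (s : Rt chevE6) :
    C.chA (E.τ a b) s = E.ζ ^ (a * ev cv1 s.val + b * ev cv2 s.val) := by
  simp only [Core.chA, τ, ← zpow_mul]
  rw [← C.zpow_fsum]
  congr 1
  simp only [add_mul, Finset.sum_add_distrib, mul_assoc, ← Finset.mul_sum, (ev_eq s).1, (ev_eq s).2]

/-- The torus elements of order five. -/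
noncomputable def q (a b : ℤ) : GL chevE6.Idx L := C.HT L (E.τ a b)

/-- The element whose centraliser is computed. -/
noncomputable abbrev t : GL chevE6.Idx L := E.q 1 0

theorem q_mem (a b : ℤ) : E.q a b ∈ chevE6.group L := C.HT_mem_group _

theorem q_mul (a b a' b' : ℤ) : E.q a b * E.q a' b' = E.q (a + a') (b + b') := by
  rw [q, q, q, C.HT_mul]
  refine congrArg (C.HT L) (funext fun j => ?_)
  simp only [Pi.mul_apply, τ, ← zpow_add]
  congr 1
  ring

theorem q_zero : E.q 0 0 = 1 := by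
  haveI := E.char
  exact HT_eq_one fun s => by simp [E.chA_τ]

theorem q_congr {a b a' b' : ℤ} (ha : (5 : ℤ) ∣ a - a') (hb : (5 : ℤ) ∣ b - b') : E.q a b = E.q a' b' := by
  haveI := E.char
  refine HT_ext fun s => ?_
  rw [E.chA_τ, E.chA_τ, E.ζ_zpow,
    show a * ev cv1 s.val + b * ev cv2 s.val - (a' * ev cv1 s.val + b' * ev cv2 s.val) =
      (a - a') * ev cv1 s.val + (b - b') * ev cv2 s.val by ring]
  exact dvd_add (ha.mul_right _) (hb.mul_right _)

theorem t_pow (n : ℕ) : E.t ^ n = E.q n 0 := by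
  induction n with
  | zero => rw [pow_zero, Nat.cast_zero, E.q_zero]
  | succ n ih => rw [pow_succ, ih, E.q_mul, add_zero, Nat.cast_succ]

/-- The group of order twenty-five. -/
noncomputable def qHom : Multiplicative (ZMod 5 × ZMod 5) →* GL chevE6.Idx L where
  toFun x := E.q (x.toAdd.1.val : ℤ) (x.toAdd.2.val : ℤ)
  map_one' := by simpa using E.q_zero
  map_mul' x y := by
    rw [E.q_mul]
    refine E.q_congr ?_ ?_ <;>
      · rw [show (5 : ℤ) = ((5 : ℕ) : ℤ) from rfl, ← ZMod.intCast_eq_intCast_iff_dvd_sub]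
        simp [toAdd_mul]

theorem qHom_apply (a b : ZMod 5) : E.qHom (Multiplicative.ofAdd (a, b)) = E.q a.val b.val := rfl

theorem qHom_injective : Function.Injective E.qHom := by
  haveI := E.char
  refine (injective_iff_map_eq_one _).2 fun x hx => ?_
  have h0 : ∀ r : Rt chevE6, C.chA (E.τ (x.toAdd.1.val : ℤ) (x.toAdd.2.val : ℤ)) r = 1 := fun r => by
    rw [chA_inj (d := E.τ 0 0) (show C.HT L _ = C.HT L _ from hx.trans E.q_zero.symm) r, E.chA_τ]
    simp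
  have h := ev_sep ⟨x.toAdd.1.val, ZMod.val_lt _⟩ ⟨x.toAdd.2.val, ZMod.val_lt _⟩ fun r => by
    have e := h0 r
    rw [E.chA_τ, ← zpow_zero E.ζ, E.ζ_zpow, sub_zero] at e
    exact e
  have h1 : x.toAdd.1 = 0 := (ZMod.val_eq_zero _).1 (congrArg Fin.val h.1)
  have h2 : x.toAdd.2 = 0 := (ZMod.val_eq_zero _).1 (congrArg Fin.val h.2)
  exact (toAdd_eq_zero).1 (Prod.ext h1 h2)

/-- A twisted Frobenius map on a torus element. -/
theorem exists_Fw_HT {M : List ℕ} (hM : ∀ i ∈ M, i < chevE6.rank) (c : I6 → Lˣ) :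
    ∃ d, E.Fw M (C.HT L c) = C.HT L d ∧
      ∀ s s' : Rt chevE6, s'.val = pf M (piTab s.val) → C.chA d s' = C.chA c s ^ 2 := by
  haveI := E.char
  obtain ⟨d, hd, hd'⟩ := E.exists_F0_HT c
  obtain ⟨d', hd1, hd2⟩ := exists_wprod_HT (wd M) d
  refine ⟨d', by rw [E.Fw_apply, hd, hd1], fun s s' hs => ?_⟩
  have e : s' = C.pprod (wd M) (π0 s) := Fin.ext (by rw [hs, pprod_wd_val hM, π0_val])
  rw [e, hd2, hd']

theorem sigma_surj {M : List ℕ} (hM : ∀ i ∈ M, i < chevE6.rank) (s' : Rt chevE6) :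
    ∃ s : Rt chevE6, s'.val = pf M (piTab s.val) := by
  obtain ⟨x, rfl⟩ := (C.pprod (wd M)).surjective s'
  obtain ⟨s, rfl⟩ := π0.surjective x
  exact ⟨s, by rw [pprod_wd_val hM, π0_val]⟩

theorem Fw_q (a b : ℤ) : E.Fw Lw (E.q a b) = E.q a b := by
  haveI := E.char
  have hM : ∀ i ∈ Lw, i < chevE6.rank := by decide
  obtain ⟨d, hd, hd'⟩ := E.exists_Fw_HT hM (E.τ a b)
  rw [q, hd]
  refine HT_ext fun s' => ?_
  obtain ⟨s, hs⟩ := sigma_surj E hM s'
  rw [hd' s s' hs, E.chA_τ, E.chA_τ, ← zpow_natCast, ← zpow_mul, E.ζ_zpow, hs,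
    show (a * ev cv1 s.val + b * ev cv2 s.val) * ((2 : ℕ) : ℤ) -
        (a * ev cv1 (pf Lw (piTab s.val)) + b * ev cv2 (pf Lw (piTab s.val))) =
      a * (2 * ev cv1 s.val - ev cv1 (pf Lw (piTab s.val))) +
        b * (2 * ev cv2 s.val - ev cv2 (pf Lw (piTab s.val))) by push_cast; ring]
  exact dvd_add ((ev_frob s).1.mul_left _) ((ev_frob s).2.1.mul_left _)

theorem Fw0_t : E.Fw [0] E.t = E.t := by
  haveI := E.char
  have hM : ∀ i ∈ [0], i < chevE6.rank := by decide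
  obtain ⟨d, hd, hd'⟩ := E.exists_Fw_HT hM (E.τ 1 0)
  show E.Fw [0] (C.HT L (E.τ 1 0)) = C.HT L (E.τ 1 0)
  rw [hd]
  refine HT_ext fun s' => ?_
  obtain ⟨s, hs⟩ := sigma_surj E hM s'
  rw [hd' s s' hs, E.chA_τ, E.chA_τ, ← zpow_natCast, ← zpow_mul, E.ζ_zpow, hs,
    show ((1 : ℤ) * ev cv1 s.val + 0 * ev cv2 s.val) * ((2 : ℕ) : ℤ) -
        (1 * ev cv1 (pf [0] (piTab s.val)) + 0 * ev cv2 (pf [0] (piTab s.val))) =
      2 * ev cv1 s.val - ev cv1 (pf [0] (piTab s.val)) by push_cast; ring]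
  exact (ev_frob s).2.2

/-- A torus element commutes with the root elements of the roots on which it is trivial. -/
theorem commute_t_X {r : Rt chevE6} (h : (5 : ℤ) ∣ ev cv1 r.val) (x : L) : Commute E.t (C.X L r x) := by
  haveI := E.char
  have e := C.HT_X_conj L (E.τ 1 0) r x
  rw [E.chA_τ, show E.ζ ^ (1 * ev cv1 r.val + 0 * ev cv2 r.val) = E.ζ ^ (0 : ℤ) from
    E.ζ_zpow.2 (by simpa using h), zpow_zero, Units.val_one, one_mul, mul_inv_eq_iff_eq_mul] at e
  exact e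

theorem commute_t_g : Commute E.t (E.g2 * E.g3) := by
  have key : ∀ (n : ℕ) (h : n < 72), n ∈ [46, 25, 69, 2, 39, 32, 71, 0] → ∀ x : L, Commute E.t (C.X L (rt n h) x) :=
    fun n h hn x => E.commute_t_X (ev_S n hn) x
  have hr := E.rev_facts
  refine Commute.mul_right ?_ ?_
  · rw [g2, gPair, hr.2.2.1, hr.2.2.2.1]
    exact ((key 25 _ (by simp) _).mul_right (key 46 _ (by simp) _)).mul_right
      ((key 2 _ (by simp) _).mul_right (key 69 _ (by simp) _))
  · rw [g3, gPair, hr.2.2.2.2.1, hr.2.2.2.2.2]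
    exact ((key 32 _ (by simp) _).mul_right (key 39 _ (by simp) _)).mul_right
      ((key 0 _ (by simp) _).mul_right (key 71 _ (by simp) _))

theorem gT_t : E.gT * E.t * E.gT⁻¹ = E.g1 * E.t * E.g1⁻¹ := by
  rw [gT]
  calc E.g1 * E.g2 * E.g3 * E.t * (E.g1 * E.g2 * E.g3)⁻¹
      = E.g1 * ((E.g2 * E.g3) * E.t * (E.g2 * E.g3)⁻¹) * E.g1⁻¹ := by group
    _ = _ := by rw [← E.commute_t_g.eq, mul_inv_cancel_right]

/-- The Weyl elements commuting with the twist. -/
noncomputable def nU (_E : Dat K L) (a b : Fin 5) : GL chevE6.Idx L := C.wprod L (wd (uTab.getD (5 * a.val + b.val) []))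

theorem nU_mem (a b : Fin 5) : E.nU a b ∈ chevE6.group L := C.monomial_le_group (C.wprod_mem_monomial _)

theorem Fw_nU (a b : Fin 5) : E.Fw Lw (E.nU a b) = E.nU a b := by
  haveI := E.char
  set M := wd (uTab.getD (5 * a.val + b.val) []) with hM
  have e : C.pprod (wd Lw ++ M.map ρ0) = C.pprod (M ++ wd Lw) := Equiv.ext fun r => Fin.ext (by
    rw [pprod_val, pprod_val, hM]
    exact uTab_comm ⟨5 * a.val + b.val, by omega⟩ r)
  rw [E.Fw_apply, nU, ← hM, E.F0_wprod, wprod_mul, wprod_congr e, ← wprod_mul, mul_inv_cancel_right]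

theorem nU_t {a b : Fin 5} (hab : a.val ≠ 0 ∨ b.val ≠ 0) :
    E.nU a b * E.t * (E.nU a b)⁻¹ = E.q a.val b.val := by
  haveI := E.char
  obtain ⟨d, hd, hd'⟩ := exists_wprod_HT (wd (uTab.getD (5 * a.val + b.val) [])) (E.τ 1 0)
  rw [nU, show E.t = C.HT L (E.τ 1 0) from rfl, hd, q]
  refine HT_ext fun s' => ?_
  obtain ⟨s, rfl⟩ := (C.pprod (wd (uTab.getD (5 * a.val + b.val) []))).surjective s'
  rw [hd', E.chA_τ, E.chA_τ, E.ζ_zpow, pprod_wd_val (uTab_lt ⟨5 * a.val + b.val, by omega⟩)]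
  rw [one_mul, zero_mul, add_zero, ← dvd_neg, neg_sub]
  exact uTab_ev a b hab s

end Dat

end Cfsg.Agent.Lib.E6TwoFive
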