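import Cfsg.Agent.Lib.E6TwoFive.Ext

/-!
Explicit elements over the field of sixteen elements which twist the Frobenius map by the reflections
in four orthogonal or chained roots.
-/

set_option autoImplicit false
set_option maxRecDepth 100000
set_option linter.unusedSectionVars false
set_option linter.style.haveILetI false

namespace Cfsg.Agent.Lib.E6TwoFive

open Cfsg.Lie Cfsg.Agent.Lib.ChevStructure Cfsg.Agent.Lib.LieTwisted.Twist
open scoped MatrixGroups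

universe u w

/-- A root by number. -/
def rt (n : ℕ) (h : n < 72 := by decide) : Rt chevE6 := ⟨n, h⟩

theorem perm_facts :
    (∀ M ∈ [[], [0], [1] ++ L69 ++ [0], Lw, L69, [1], [3]], ∀ i ∈ M, i < chevE6.rank) ∧
    (piTab 56 = 36 ∧ piTab 36 = 56 ∧ piTab 15 = 35 ∧ piTab 35 = 15) ∧
    (pf [0] (piTab 46) = 46 ∧ pf [0] (piTab 25) = 25 ∧ pf [0] (piTab 69) = 69 ∧ pf [0] (piTab 2) = 2) ∧
    (pf ([1] ++ L69 ++ [0]) (piTab 39) = 71 ∧ pf ([1] ++ L69 ++ [0]) (piTab 71) = 39 ∧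
      pf ([1] ++ L69 ++ [0]) (piTab 32) = 0 ∧ pf ([1] ++ L69 ++ [0]) (piTab 0) = 32) ∧
    (∀ c ∈ [(56, 36), (56, 35), (15, 36), (15, 35), (46, 69), (46, 2), (25, 69), (25, 2), (39, 71), (39, 0),
        (32, 71), (32, 0)], chevE6.commTerms c.1 c.2 = [] ∧ c.1 + c.2 ≠ 71 ∧ c.1 ≠ c.2) := by decide +kernel

section Gen

variable {L : Type w} [Field L] [CharP L 2]

/-- A pair of elements for a pair of orthogonal roots. -/
noncomputable def gPair (r r' : Rt chevE6) (x y : L) : GL chevE6.Idx L :=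
  C.X L r.rev x * C.X L r 1 * (C.X L r'.rev y * C.X L r' 1)

theorem step_one (r : Rt chevE6) {x x' : L} (h : x + x' = 1) :
    (C.X L r.rev x * C.X L r 1)⁻¹ * (C.X L r.rev x' * C.X L r 1) = C.nR L r 1 := by
  rw [mul_inv_rev, C.X_inv, C.X_inv, neg_eq, neg_eq, nR_one, mul_assoc, ← mul_assoc (C.X L r.rev x),
    C.X_add, h, mul_assoc]

theorem commute_pair {r r' : Rt chevE6} {a b : ℕ} (ha : r.val = a) (hb : r'.val = b) (x : L) (y : L)
    (h : chevE6.commTerms a b = [] ∧ a + b ≠ 71 ∧ a ≠ b) : Commute (C.X L r x) (C.X L r' y) := by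
  subst ha hb
  refine commute_X (fun e => h.2.2 (congrArg Fin.val e).symm) (fun e => h.2.1 ?_) h.1 x y
  have := congrArg Fin.val e
  rw [rev_val] at this
  have := r.isLt
  change r.val < 72 at this
  omega

theorem gPair_commute {r r' : Rt chevE6} (h1 : ∀ x y : L, Commute (C.X L r x) (C.X L r' y))
    (h2 : ∀ x y : L, Commute (C.X L r x) (C.X L r'.rev y)) (h3 : ∀ x y : L, Commute (C.X L r.rev x) (C.X L r' y))
    (h4 : ∀ x y : L, Commute (C.X L r.rev x) (C.X L r'.rev y)) (x y : L) :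
    Commute (C.X L r.rev x * C.X L r 1) (C.X L r'.rev y * C.X L r' 1) :=
  ((h4 x y).mul_right (h3 x 1)).mul_left ((h2 1 y).mul_right (h1 1 1))

/-- The twisting property of a pair of orthogonal roots exchanged by a map. -/
theorem step_pair (F : GL chevE6.Idx L ≃* GL chevE6.Idx L) {r r' : Rt chevE6}
    (hr : ∀ u, F (C.X L r u) = C.X L r' (u ^ 2)) (hrr : ∀ u, F (C.X L r.rev u) = C.X L r'.rev (u ^ 2))
    (hr' : ∀ u, F (C.X L r' u) = C.X L r (u ^ 2)) (hrr' : ∀ u, F (C.X L r'.rev u) = C.X L r.rev (u ^ 2))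
    (hc : ∀ x y : L, Commute (C.X L r.rev x * C.X L r 1) (C.X L r'.rev y * C.X L r' 1))
    {b : L} (hb : b ^ 4 + b = 1) :
    (gPair r r' b (b ^ 2))⁻¹ * F (gPair r r' b (b ^ 2)) = C.nR L r 1 := by
  rw [gPair, map_mul, map_mul, map_mul, hr, hrr, hr', hrr', one_pow, ← pow_mul, show 2 * 2 = 4 from rfl,
    ← (hc (b ^ 4) (b ^ 2)).eq, mul_inv_rev]
  set A := C.X L r.rev b * C.X L r 1
  set B := C.X L r'.rev (b ^ 2) * C.X L r' 1
  have e : A⁻¹ * (C.X L r.rev (b ^ 4) * C.X L r 1) = C.nR L r 1 := step_one r (by rw [add_comm]; exact hb)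
  have h1 : Commute B A := (hc b (b ^ 2)).symm
  have h2 : Commute B (C.X L r.rev (b ^ 4) * C.X L r 1) := (hc (b ^ 4) (b ^ 2)).symm
  have h3 : Commute B (A⁻¹ * (C.X L r.rev (b ^ 4) * C.X L r 1)) := h1.inv_right.mul_right h2
  calc B⁻¹ * A⁻¹ * (C.X L r.rev (b ^ 4) * C.X L r 1 * B)
      = B⁻¹ * (A⁻¹ * (C.X L r.rev (b ^ 4) * C.X L r 1) * B) := by group
    _ = B⁻¹ * (B * (A⁻¹ * (C.X L r.rev (b ^ 4) * C.X L r 1))) := by rw [h3.eq]
    _ = _ := by rw [inv_mul_cancel_left, e]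

theorem nR_69 : C.nR L (rt 69) 1 = C.wprod L (wd L69) := by
  have hb : C.pprod (wd [2, 0, 4, 3, 1, 2, 3, 4]) (C.p ⟨5, by decide⟩) = rt 69 := Fin.ext (by
    rw [pprod_wd_val (by decide), p_val]
    decide +kernel)
  have hinv : (C.wprod L (wd [2, 0, 4, 3, 1, 2, 3, 4]))⁻¹ = C.wprod L (wd [4, 3, 2, 1, 3, 4, 0, 2]) := by
    refine inv_eq_of_mul_eq_one_right ?_
    rw [wprod_mul, wprod_congr (N := [])]
    · simp [Core.wprod]
    refine Equiv.ext fun r => Fin.ext ?_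
    have e : wd [2, 0, 4, 3, 1, 2, 3, 4] ++ wd [4, 3, 2, 1, 3, 4, 0, 2] =
        wd [2, 0, 4, 3, 1, 2, 3, 4, 4, 3, 2, 1, 3, 4, 0, 2] := rfl
    rw [e, pprod_wd_val (by decide)]
    revert r
    decide +kernel
  rw [nR_one, ← hb, ← C.pprod_rev, ← wprod_X, ← wprod_X, show L69 = [2, 0, 4, 3, 1, 2, 3, 4] ++ [5] ++
    [4, 3, 2, 1, 3, 4, 0, 2] from rfl]
  show _ = C.wprod L (wd [2, 0, 4, 3, 1, 2, 3, 4] ++ [⟨5, by decide⟩] ++ wd [4, 3, 2, 1, 3, 4, 0, 2])
  rw [C.wprod_append, C.wprod_append, ← hinv, show C.wprod L [⟨5, by decide⟩] = C.P L ⟨5, by decide⟩ by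
    simp [Core.wprod], Core.P, nR_one]
  group

theorem nR_simple {n : ℕ} (hn : n < 72) (i : I6) (h : pTab.getD i.val 0 = n) :
    C.nR L (rt n hn) 1 = C.wprod L [i] := by
  have e : C.p i = rt n hn := Fin.ext (by rw [p_val, h]; rfl)
  simp [Core.wprod, Core.P, e]

end Gen

/-- The fields together with an Artin–Schreier element and a fifth root of one. -/
structure Dat (K : Type u) [Field K] (L : Type w) [Field L] extends Ext K L where
  b : L
  hb : b ^ 4 + b = 1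
  ζ : Lˣ
  hζ : orderOf ζ = 5

theorem exists_dat (K : Type u) [Field K] [Fintype K] (hK : Fintype.card K = 4) :
    ∃ (L : Type) (_ : Field L), Nonempty (Dat K L) := by
  obtain ⟨L, hL, ⟨E⟩⟩ := exists_ext K hK
  haveI := E.char
  haveI := E.finiteL
  haveI := E.finiteK
  obtain ⟨z, hz⟩ : ∃ z : L, z ^ 4 ≠ z := by
    by_contra hne
    push Not at hne
    choose y hy using fun x => E.mem_of_pow_four (hne x)
    have := Nat.card_le_card_of_injective y (fun a c h => by rw [← hy a, ← hy c, h])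
    rw [E.cardL, E.cardK] at this
    omega
  set a := z ^ 4 + z with ha
  have ha0 : a ≠ 0 := fun h => hz (by
    rw [ha] at h
    calc z ^ 4 = (z ^ 4 + z) + z := by rw [add_assoc, CharTwo.add_self_eq_zero, add_zero]
      _ = z := by rw [h, zero_add])
  have ha4 : a ^ 4 = a := by
    have h2 : ∀ x y : L, (x + y) ^ 4 = x ^ 4 + y ^ 4 := fun x y => by
      rw [show 4 = 2 * 2 from rfl, pow_mul, pow_mul, pow_mul, CharTwo.add_sq, CharTwo.add_sq]
    rw [ha, h2, ← pow_mul, show 4 * 4 = 16 from rfl, E.pow_L, add_comm]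
  have hb : (z / a) ^ 4 + z / a = 1 := by
    rw [div_pow, ha4, ← add_div, ← ha, div_self ha0]
  obtain ⟨ζ, hζ⟩ : ∃ ζ : Lˣ, orderOf ζ = 5 := by
    haveI : Fact (Nat.Prime 5) := ⟨by norm_num⟩
    refine exists_prime_orderOf_dvd_card' 5 ?_
    rw [Nat.card_units, E.cardL]
    norm_num
  exact ⟨L, hL, ⟨{ toExt := E, b := z / a, hb := hb, ζ := ζ, hζ := hζ }⟩⟩

namespace Dat

variable {K : Type u} [Field K] {L : Type w} [Field L] (E : Dat K L)
include E

/-- The first twisting element. -/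
noncomputable def g1 : GL chevE6.Idx L := gPair (rt 56) (rt 36) E.b (E.b ^ 2)

/-- The second twisting element. -/
noncomputable def g2 : GL chevE6.Idx L := gPair (rt 46) (rt 69) (E.b ^ 2 + E.b) (E.b ^ 2 + E.b)

/-- The third twisting element. -/
noncomputable def g3 : GL chevE6.Idx L := gPair (rt 39) (rt 71) E.b (E.b ^ 2)

/-- The maps twisted along a word. -/
noncomputable def Fw (M : List ℕ) : GL chevE6.Idx L ≃* GL chevE6.Idx L :=
  E.F0.trans (MulAut.conj (C.wprod L (wd M)))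

theorem Fw_apply (M : List ℕ) (y : GL chevE6.Idx L) :
    E.Fw M y = C.wprod L (wd M) * E.F0 y * (C.wprod L (wd M))⁻¹ := rfl

theorem Fw_X {M : List ℕ} (hM : ∀ i ∈ M, i < chevE6.rank) {r s : Rt chevE6}
    (h : pf M (piTab r.val) = s.val) (u : L) : E.Fw M (C.X L r u) = C.X L s (u ^ 2) := by
  haveI := E.char
  rw [E.Fw_apply, E.F0_X, wprod_X, show C.pprod (wd M) (π0 r) = s from Fin.ext (by
    rw [pprod_wd_val hM, π0_val, h])]

theorem Fw_rev {M : List ℕ} (hM : ∀ i ∈ M, i < chevE6.rank) {r s : Rt chevE6}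
    (h : pf M (piTab r.val) = s.val) (u : L) : E.Fw M (C.X L r.rev u) = C.X L s.rev (u ^ 2) := by
  haveI := E.char
  rw [E.Fw_apply, E.F0_X, wprod_X, π0_rev, C.pprod_rev, show C.pprod (wd M) (π0 r) = s from Fin.ext (by
    rw [pprod_wd_val hM, π0_val, h])]

theorem rev_facts : (rt 56).rev = rt 15 ∧ (rt 36).rev = rt 35 ∧ (rt 46).rev = rt 25 ∧ (rt 69).rev = rt 2 ∧
    (rt 39).rev = rt 32 ∧ (rt 71).rev = rt 0 := by decide +kernel

theorem hc (r r' : Rt chevE6) (h : ∀ c ∈ [(r.val, r'.val), (r.val, r'.rev.val), (r.rev.val, r'.val),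
    (r.rev.val, r'.rev.val)], chevE6.commTerms c.1 c.2 = [] ∧ c.1 + c.2 ≠ 71 ∧ c.1 ≠ c.2) (x y : L) :
    Commute (C.X L r.rev x * C.X L r 1) (C.X L r'.rev y * C.X L r' 1) := by
  haveI := E.char
  exact gPair_commute (fun a c => commute_pair rfl rfl a c (h (r.val, r'.val) (by simp)))
    (fun a c => commute_pair rfl rfl a c (h (r.val, r'.rev.val) (by simp)))
    (fun a c => commute_pair rfl rfl a c (h (r.rev.val, r'.val) (by simp)))
    (fun a c => commute_pair rfl rfl a c (h (r.rev.val, r'.rev.val) (by simp))) x y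

theorem g1_spec (y : GL chevE6.Idx L) : E.F0 (E.g1 * y * E.g1⁻¹) = E.g1 * E.Fw [0] y * E.g1⁻¹ := by
  haveI := E.char
  have e : E.g1⁻¹ * E.F0 E.g1 = C.wprod L (wd [0]) := by
    refine (step_pair E.F0 (r := rt 56) (r' := rt 36) ?_ ?_ ?_ ?_ (E.hc (rt 56) (rt 36) (by decide +kernel))
      E.hb).trans ?_
    · intro u; rw [E.F0_X]; exact congrArg (fun r => C.X L r (u ^ 2)) (Fin.ext perm_facts.2.1.1)
    · intro u; rw [E.F0_X, π0_rev]
      exact congrArg (fun r : Rt chevE6 => C.X L r.rev (u ^ 2)) (Fin.ext perm_facts.2.1.1)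
    · intro u; rw [E.F0_X]; exact congrArg (fun r => C.X L r (u ^ 2)) (Fin.ext perm_facts.2.1.2.1)
    · intro u; rw [E.F0_X, π0_rev]
      exact congrArg (fun r : Rt chevE6 => C.X L r.rev (u ^ 2)) (Fin.ext perm_facts.2.1.2.1)
    · exact nR_simple (n := 56) (by decide) ⟨0, by decide⟩ rfl
  rw [inv_mul_eq_iff_eq_mul] at e
  rw [map_mul, map_mul, map_inv, e, E.Fw_apply]
  group

theorem g2_spec (y : GL chevE6.Idx L) :
    E.Fw [0] (E.g2 * y * E.g2⁻¹) = E.g2 * E.Fw ([1] ++ L69 ++ [0]) y * E.g2⁻¹ := by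
  haveI := E.char
  have hM : ∀ i ∈ [0], i < chevE6.rank := by decide
  have hβ : (E.b ^ 2 + E.b) + (E.b ^ 2 + E.b) ^ 2 = 1 := by
    calc (E.b ^ 2 + E.b) + (E.b ^ 2 + E.b) ^ 2 = (E.b ^ 4 + E.b) + (E.b ^ 2 + E.b ^ 2) := by
          rw [CharTwo.add_sq, ← pow_mul]; ring
      _ = 1 := by rw [E.hb, CharTwo.add_self_eq_zero, add_zero]
  set β := E.b ^ 2 + E.b with hβdef
  have hcm := E.hc (rt 46) (rt 69) (by decide +kernel)
  have e : E.g2⁻¹ * E.Fw [0] E.g2 = C.wprod L (wd ([1] ++ L69)) := by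
    have h1 : E.Fw [0] (C.X L (rt 46).rev β * C.X L (rt 46) 1) =
        C.X L (rt 46).rev (β ^ 2) * C.X L (rt 46) 1 := by
      rw [map_mul, E.Fw_rev hM (s := rt 46) perm_facts.2.2.1.1, E.Fw_X hM (s := rt 46) perm_facts.2.2.1.1, one_pow]
    have h2 : E.Fw [0] (C.X L (rt 69).rev β * C.X L (rt 69) 1) =
        C.X L (rt 69).rev (β ^ 2) * C.X L (rt 69) 1 := by
      rw [map_mul, E.Fw_rev hM (s := rt 69) perm_facts.2.2.1.2.2.1,
        E.Fw_X hM (s := rt 69) perm_facts.2.2.1.2.2.1, one_pow]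
    rw [g2, gPair, map_mul, h1, h2, mul_inv_rev]
    set A := C.X L (rt 46).rev β * C.X L (rt 46) 1 with hA
    set B := C.X L (rt 69).rev β * C.X L (rt 69) 1 with hB
    set A' := C.X L (rt 46).rev (β ^ 2) * C.X L (rt 46) 1 with hA'
    set B' := C.X L (rt 69).rev (β ^ 2) * C.X L (rt 69) 1 with hB'
    have hBA : Commute B⁻¹ (A⁻¹ * A') := ((hcm β β).symm.inv_right.mul_right (hcm (β ^ 2) β).symm).inv_left
    calc B⁻¹ * A⁻¹ * (A' * B') = B⁻¹ * (A⁻¹ * A') * B' := by group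
      _ = (A⁻¹ * A') * (B⁻¹ * B') := by rw [hBA.eq]; group
      _ = C.nR L (rt 46) 1 * C.nR L (rt 69) 1 := by
          rw [hA, hA', hB, hB', step_one _ hβ, step_one _ hβ]
      _ = _ := by
          rw [nR_simple (n := 46) (by decide) ⟨1, by decide⟩ rfl, nR_69, wprod_mul]
          rfl
  rw [inv_mul_eq_iff_eq_mul] at e
  rw [map_mul, map_mul, map_inv, e, E.Fw_apply, E.Fw_apply,
    show wd ([1] ++ L69 ++ [0]) = wd ([1] ++ L69) ++ wd [0] from rfl, C.wprod_append]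
  group

theorem g3_spec (y : GL chevE6.Idx L) :
    E.Fw ([1] ++ L69 ++ [0]) (E.g3 * y * E.g3⁻¹) = E.g3 * E.Fw Lw y * E.g3⁻¹ := by
  haveI := E.char
  have hM : ∀ i ∈ [1] ++ L69 ++ [0], i < chevE6.rank := by decide
  have e : E.g3⁻¹ * E.Fw ([1] ++ L69 ++ [0]) E.g3 = C.wprod L (wd [3]) := by
    refine Eq.trans ?_ (nR_simple (n := 39) (by decide) ⟨3, by decide⟩ rfl)
    refine step_pair (E.Fw ([1] ++ L69 ++ [0])) (r := rt 39) (r' := rt 71) ?_ ?_ ?_ ?_ (E.hc (rt 39) (rt 71) (by decide +kernel)) E.hb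
    · exact fun u => E.Fw_X hM (r := rt 39) (s := rt 71) perm_facts.2.2.2.1.1 u
    · exact fun u => E.Fw_rev hM (r := rt 39) (s := rt 71) perm_facts.2.2.2.1.1 u
    · exact fun u => E.Fw_X hM (r := rt 71) (s := rt 39) perm_facts.2.2.2.1.2.1 u
    · exact fun u => E.Fw_rev hM (r := rt 71) (s := rt 39) perm_facts.2.2.2.1.2.1 u
  rw [inv_mul_eq_iff_eq_mul] at e
  rw [map_mul, map_mul, map_inv, e, E.Fw_apply Lw, E.Fw_apply, show wd Lw = wd [3] ++ wd ([1] ++ L69 ++ [0]) from rfl,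
    C.wprod_append]
  group

/-- The full twisting element. -/
noncomputable def gT : GL chevE6.Idx L := E.g1 * E.g2 * E.g3

theorem gT_spec (y : GL chevE6.Idx L) : E.F0 (E.gT * y * E.gT⁻¹) = E.gT * E.Fw Lw y * E.gT⁻¹ := by
  have h : ∀ z, E.gT * z * E.gT⁻¹ = E.g1 * (E.g2 * (E.g3 * z * E.g3⁻¹) * E.g2⁻¹) * E.g1⁻¹ := fun z => by
    rw [gT]; group
  rw [h, E.g1_spec, E.g2_spec, E.g3_spec, h]

theorem g_mem : E.g1 ∈ chevE6.group L ∧ E.g2 ∈ chevE6.group L ∧ E.g3 ∈ chevE6.group L := by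
  refine ⟨?_, ?_, ?_⟩ <;>
    exact mul_mem (mul_mem (C.X_mem_group _ _) (C.X_mem_group _ _))
      (mul_mem (C.X_mem_group _ _) (C.X_mem_group _ _))

theorem gT_mem : E.gT ∈ chevE6.group L := mul_mem (mul_mem E.g_mem.1 E.g_mem.2.1) E.g_mem.2.2

end Dat

end Cfsg.Agent.Lib.E6TwoFive
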